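import Cfsg.Agent.Lib.Known.SLn.Elem

/-!
# Elementary sections in central extensions
-/

set_option autoImplicit false

namespace CfsgLib.Known.SLn

open scoped commutatorElement

variable {n : ℕ} {F Q Γ : Type*} [Field F] [Group Q] [Group Γ] (E : Elem (Fin n) F Q) (σ : Γ →* Q)
  (hs : Function.Surjective σ) (hc : σ.ker ≤ Subgroup.center Γ)

/-- chosen lift -/
noncomputable def lft (g : Q) : Γ := Function.surjInv hs g

/-- commutator of lifts -/
noncomputable def cml (g h : Q) : Γ := ⁅lft σ hs g, lft σ hs h⁆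

theorem σ_lft (g : Q) : σ (lft σ hs g) = g := Function.surjInv_eq hs g

theorem σ_cml (g h : Q) : σ (cml σ hs g h) = ⁅g, h⁆ := by
  rw [cml, map_commutatorElement, σ_lft, σ_lft]

theorem cml_inv (g h : Q) : (cml σ hs g h)⁻¹ = cml σ hs h g := commutatorElement_inv _ _

include hs hc

theorem comm_eq {a b : Γ} {g h : Q} (ha : σ a = g) (hb : σ b = h) : ⁅a, b⁆ = cml σ hs g h := by
  have hd : ∀ x y : Γ, σ x = σ y → ∃ z ∈ Subgroup.center Γ, x = y * z := fun x y e =>
    ⟨y⁻¹ * x, hc (by rw [MonoidHom.mem_ker, map_mul, map_inv, e, inv_mul_cancel]), by group⟩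
  obtain ⟨z, hz, rfl⟩ := hd a (lft σ hs g) (by rw [ha, σ_lft])
  obtain ⟨w, hw, rfl⟩ := hd b (lft σ hs h) (by rw [hb, σ_lft])
  obtain ⟨A, hA⟩ : ∃ A, A = lft σ hs g := ⟨_, rfl⟩
  obtain ⟨B, hB⟩ : ∃ B, B = lft σ hs h := ⟨_, rfl⟩
  rw [cml, ← hA, ← hB]
  simp only [commutatorElement_def, _root_.mul_inv_rev]
  have hzc := Subgroup.mem_center_iff.1 hz
  have hwc := Subgroup.mem_center_iff.1 hw
  calc A * z * (B * w) * (z⁻¹ * A⁻¹) * (w⁻¹ * B⁻¹)
      = A * (z * (B * w)) * z⁻¹ * A⁻¹ * w⁻¹ * B⁻¹ := by group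
    _ = A * ((B * w) * z) * z⁻¹ * A⁻¹ * w⁻¹ * B⁻¹ := by rw [hzc]
    _ = A * B * (w * A⁻¹) * w⁻¹ * B⁻¹ := by group
    _ = A * B * (A⁻¹ * w) * w⁻¹ * B⁻¹ := by rw [hwc]
    _ = A * B * A⁻¹ * B⁻¹ := by group

theorem cml_conj (p g h : Q) : lft σ hs p * cml σ hs g h * (lft σ hs p)⁻¹ =
    cml σ hs (p * g * p⁻¹) (p * h * p⁻¹) := by
  rw [← comm_eq σ hs hc (g := p * g * p⁻¹) (h := p * h * p⁻¹) (a := lft σ hs p * lft σ hs g * (lft σ hs p)⁻¹)
    (b := lft σ hs p * lft σ hs h * (lft σ hs p)⁻¹) (by simp [σ_lft]) (by simp [σ_lft]), cml]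
  simp only [commutatorElement_def]
  group

theorem cml_central {g h : Q} (hgh : Commute g h) : cml σ hs g h ∈ Subgroup.center Γ :=
  hc (by rw [MonoidHom.mem_ker, σ_cml, commutatorElement_eq_one_iff_commute.2 hgh])

theorem cml_conj_central {g h : Q} (hgh : Commute g h) (p : Q) :
    cml σ hs (p * g * p⁻¹) (p * h * p⁻¹) = cml σ hs g h := by
  rw [← cml_conj σ hs hc, Subgroup.mem_center_iff.1 (cml_central σ hs hc hgh), mul_inv_cancel_right]

theorem cml_mul_left (g g' h : Q) : cml σ hs (g * g') h =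
    lft σ hs g * cml σ hs g' h * (lft σ hs g)⁻¹ * cml σ hs g h := by
  rw [← comm_eq σ hs hc (a := lft σ hs g * lft σ hs g') (b := lft σ hs h) (by simp [σ_lft]) (σ_lft σ hs h), cml, cml]
  simp only [commutatorElement_def]
  group

theorem cml_mul_right (g h h' : Q) : cml σ hs g (h * h') =
    cml σ hs g h * (lft σ hs h * cml σ hs g h' * (lft σ hs h)⁻¹) := by
  rw [← comm_eq σ hs hc (a := lft σ hs g) (b := lft σ hs h * lft σ hs h') (σ_lft σ hs g) (by simp [σ_lft]), cml, cml]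
  simp only [commutatorElement_def]
  group

section Pairing

variable {i j k l : Fin n} (hij : i ≠ j) (hkl : k ≠ l) (hjk : j ≠ k) (hil : i ≠ l)
include hij hkl hjk hil

theorem pair_add_left (t t' u : F) : cml σ hs (E.x i j (t + t')) (E.x k l u) =
    cml σ hs (E.x i j t') (E.x k l u) * cml σ hs (E.x i j t) (E.x k l u) := by
  rw [← E.add i j hij, cml_mul_left σ hs hc,
    Subgroup.mem_center_iff.1 (cml_central σ hs hc (E.triv i j k l hij hkl hjk hil t' u)), mul_inv_cancel_right]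

theorem pair_add_right (t u u' : F) : cml σ hs (E.x i j t) (E.x k l (u + u')) =
    cml σ hs (E.x i j t) (E.x k l u) * cml σ hs (E.x i j t) (E.x k l u') := by
  rw [← E.add k l hkl, cml_mul_right σ hs hc,
    Subgroup.mem_center_iff.1 (cml_central σ hs hc (E.triv i j k l hij hkl hjk hil t u')), mul_inv_cancel_right]

theorem pair_kill (p : Q) (α : F) (hα : α ≠ 1) (h1 : ∀ t, p * E.x i j t * p⁻¹ = E.x i j (α * t))
    (h2 : ∀ u, p * E.x k l u * p⁻¹ = E.x k l u) (t u : F) : cml σ hs (E.x i j t) (E.x k l u) = 1 := by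
  have h0 : α - 1 ≠ 0 := sub_ne_zero.2 hα
  have key : ∀ t, cml σ hs (E.x i j (α * t)) (E.x k l u) = cml σ hs (E.x i j t) (E.x k l u) := fun t => by
    rw [← h1, ← cml_conj_central σ hs hc (E.triv i j k l hij hkl hjk hil t u) p, h2]
  have := key (t / (α - 1))
  rw [show α * (t / (α - 1)) = t / (α - 1) + t by field_simp; ring,
    pair_add_left E σ hs hc hij hkl hjk hil] at this
  exact mul_eq_right.1 this

/-- antisymmetry when the two roots can be exchanged -/
theorem pair_kill_symm (p : Q) (h1 : p * E.x i j 1 * p⁻¹ = E.x k l 1) (h2 : p * E.x k l 1 * p⁻¹ = E.x i j 1)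
    (h3 : ∀ s : F, s = 0 ∨ s = 1 ∨ s = -1) (h21 : (-1 : F) ≠ 1) (t u : F) :
    cml σ hs (E.x i j t) (E.x k l u) = 1 := by
  obtain ⟨f, hf⟩ : ∃ f, f = fun t u => cml σ hs (E.x i j t) (E.x k l u) := ⟨_, rfl⟩
  have hl : ∀ a b u, f (a + b) u = f b u * f a u := fun a b u => by
    rw [hf]; exact pair_add_left E σ hs hc hij hkl hjk hil a b u
  have hr : ∀ t a b, f t (a + b) = f t a * f t b := fun t a b => by
    rw [hf]; exact pair_add_right E σ hs hc hij hkl hjk hil t a b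
  have hl0 : ∀ u, f 0 u = 1 := fun u => by
    have := hl 0 0 u; rw [add_zero] at this; exact mul_eq_left.1 this.symm
  have hr0 : ∀ t, f t 0 = 1 := fun t => by
    have := hr t 0 0; rw [add_zero] at this; exact mul_eq_left.1 this.symm
  have h5 : (1 : F) + 1 = -1 := by
    rcases h3 (1 + 1) with h | h | h
    · exact absurd (eq_neg_of_add_eq_zero_left h).symm h21
    · simp at h
    · exact h
  have e2 : f 1 1 * f 1 1 = 1 := by
    have hsym : f 1 1 = (f 1 1)⁻¹ := by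
      rw [hf]
      dsimp only
      conv_lhs => rw [← cml_conj_central σ hs hc (E.triv i j k l hij hkl hjk hil 1 1) p, h1, h2]
      rw [cml_inv]
    rwa [eq_inv_iff_mul_eq_one] at hsym
  have e3 : f (-1) 1 = 1 := by rw [← h5, hl, e2]
  have e1 : f 1 1 = 1 := by
    have h := hl (-1) 1 1
    rw [neg_add_cancel, hl0, e3, mul_one] at h
    exact h.symm
  have e4 : ∀ t, f t 1 = 1 := fun t => by
    rcases h3 t with rfl | rfl | rfl
    exacts [hl0 1, e1, e3]
  have e5 : f t u = 1 := by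
    rcases h3 u with rfl | rfl | rfl
    · exact hr0 t
    · exact e4 t
    · have h := hr t (-1) 1
      rw [neg_add_cancel, hr0, e4, mul_one] at h
      exact h.symm
  rw [hf] at e5
  exact e5

theorem pair_kill_third {m : Fin n} (hmi : m ≠ i) (hmj : m ≠ j) (hmk : m ≠ k) (hml : m ≠ l) (t u : F) :
    cml σ hs (E.x i j t) (E.x k l u) = 1 := by
  obtain ⟨a, ha⟩ : ∃ a, a = lft σ hs (E.x i j t) := ⟨_, rfl⟩
  have hb : σ (cml σ hs (E.x k m u) (E.x m l 1)) = E.x k l u := by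
    rw [σ_cml, E.comm k m l hmk.symm hml hkl, mul_one]
  rw [← comm_eq σ hs hc (σ_lft σ hs (E.x i j t)) hb, commutatorElement_def, cml_conj σ hs hc,
    E.x_fix hij hmk.symm hjk hmi.symm, E.x_fix hij hml hmj.symm hil, mul_inv_cancel]

end Pairing

omit hs hc

/-- conditions on the field for small `n` -/
def FieldOk (n : ℕ) (F : Type*) [Field F] : Prop :=
  (n = 3 → ∃ e : F, e ≠ 0 ∧ e ^ 3 ≠ 1) ∧ (n = 4 → ∃ e : F, e ≠ 0 ∧ e ≠ 1)

theorem hE_self {i j : Fin n} (c : F) : Elem.hE i j c i = c := if_pos rfl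

theorem hE_snd {i j : Fin n} (hij : i ≠ j) (c : F) : Elem.hE i j c j = c⁻¹ := by
  rw [Elem.hE, if_neg hij.symm, if_pos rfl]

theorem hE_other {i j k : Fin n} (hi : k ≠ i) (hj : k ≠ j) (c : F) : Elem.hE i j c k = 1 := by
  rw [Elem.hE, if_neg hi, if_neg hj]

/-- product of two diagonal elements -/
theorem hh_conj {a b a' b' : Fin n} (hab : a ≠ b) (hab' : a' ≠ b') {c : F} (hc : c ≠ 0) {i j : Fin n} (hij : i ≠ j)
    (t : F) : E.h a b c * E.h a' b' c * E.x i j t * (E.h a b c * E.h a' b' c)⁻¹ =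
      E.x i j (Elem.hE a b c i * Elem.hE a' b' c i * t / (Elem.hE a b c j * Elem.hE a' b' c j)) :=
  ((E.mon_h hab hc).mul E (E.mon_h hab' hc)).2 i j hij t

theorem exists_not_mem {s : Finset (Fin n)} (h : s.card < n) : ∃ m, m ∉ s := by
  by_contra hh
  push Not at hh
  have := Finset.card_le_card (show Finset.univ ⊆ s from fun m _ => hh m)
  rw [Finset.card_univ, Fintype.card_fin] at this
  omega

include hs hc

theorem cml_triv (hn : 3 ≤ n) (hok : FieldOk n F) {i j k l : Fin n} (hij : i ≠ j) (hkl : k ≠ l) (hjk : j ≠ k)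
    (hil : i ≠ l) (t u : F) : cml σ hs (E.x i j t) (E.x k l u) = 1 := by
  by_cases h : ∃ m, m ≠ i ∧ m ≠ j ∧ m ≠ k ∧ m ≠ l
  · obtain ⟨m, h1, h2, h3, h4⟩ := h
    exact pair_kill_third E σ hs hc hij hkl hjk hil h1 h2 h3 h4 t u
  push Not at h
  have hn4 : n ≤ 4 := by
    by_contra hn5
    obtain ⟨m, hm⟩ := exists_not_mem (s := {i, j, k, l}) (lt_of_le_of_lt Finset.card_le_four (by omega))
    simp only [Finset.mem_insert, Finset.mem_singleton, not_or] at hm
    exact hm.2.2.2 (h m hm.1 hm.2.1 hm.2.2.1)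
  have h3of : ∀ a b c : Fin n, (∀ m, m ≠ a → m ≠ b → m ≠ c → False) → n = 3 := by
    intro a b c habc
    by_contra hne
    obtain ⟨m, hm⟩ := exists_not_mem (s := {a, b, c}) (lt_of_le_of_lt Finset.card_le_three (by omega))
    simp only [Finset.mem_insert, Finset.mem_singleton, not_or] at hm
    exact habc m hm.1 hm.2.1 hm.2.2
  by_cases hik : i = k
  · subst hik
    by_cases hjl : j = l
    · subst hjl
      obtain ⟨m, hmi, hmj⟩ := E.third i j
      exact absurd (h m hmi hmj hmi) hmj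
    obtain ⟨e, he, he3⟩ := hok.1 (h3of i j l fun m a b c => c (h m a b a))
    refine pair_kill E σ hs hc hij hkl hjk hil (E.h i j e * E.h l j e) (e ^ 3) he3 (fun t => ?_) (fun u => ?_) t u
    · rw [hh_conj E hij (Ne.symm hjl) he hij, hE_self, hE_other hkl hij, hE_snd hij, hE_snd (Ne.symm hjl)]
      congr 1; field_simp
    · rw [hh_conj E hij (Ne.symm hjl) he hkl, hE_self, hE_other hkl hij, hE_other hkl.symm (Ne.symm hjl), hE_self]
      congr 1; field_simp
  by_cases hjl : j = l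
  · subst hjl
    obtain ⟨e, he, he3⟩ := hok.1 (h3of i j k fun m a b c => b (h m a b c))
    refine pair_kill E σ hs hc hij hkl hjk hil (E.h i j e * E.h i k e) (e ^ 3) he3 (fun t => ?_) (fun u => ?_) t u
    · rw [hh_conj E hij hik he hij, hE_self, hE_self, hE_snd hij, hE_other hij.symm hjk]
      congr 1; field_simp
    · rw [hh_conj E hij hik he hkl, hE_other (Ne.symm hik) hkl, hE_snd hik, hE_snd hij, hE_other hij.symm hjk]
      congr 1; field_simp
  have hn4' : n = 4 := by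
    have hcard : ({i, j, k, l} : Finset (Fin n)).card = 4 :=
      Finset.card_eq_four.2 ⟨i, j, k, l, hij, hik, hil, hjk, hjl, hkl, rfl⟩
    have := Finset.card_le_univ ({i, j, k, l} : Finset (Fin n))
    rw [hcard, Fintype.card_fin] at this
    omega
  by_cases hsq : ∃ e : F, e ≠ 0 ∧ e * e ≠ 1
  · obtain ⟨e, he, he2⟩ := hsq
    refine pair_kill E σ hs hc hij hkl hjk hil (E.h i j e) (e * e) he2 (fun t => ?_) (fun u => ?_) t u
    · have := (E.mon_h hij he).2 i j hij t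
      rw [Equiv.Perm.one_apply, Equiv.Perm.one_apply, hE_self, hE_snd hij] at this
      rw [this]; congr 1; field_simp
    · have := (E.mon_h hij he).2 k l hkl u
      rw [Equiv.Perm.one_apply, Equiv.Perm.one_apply, hE_other (Ne.symm hik) hjk.symm,
        hE_other (Ne.symm hil) (Ne.symm hjl)] at this
      rw [this, one_mul, div_one]
  push Not at hsq
  have h3 : ∀ s : F, s = 0 ∨ s = 1 ∨ s = -1 := fun s => by
    by_cases hs0 : s = 0
    · exact Or.inl hs0
    · exact Or.inr (mul_self_eq_one_iff.1 (hsq s hs0))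
  have h21 : (-1 : F) ≠ 1 := by
    obtain ⟨e, he, he1⟩ := hok.2 hn4'
    rcases h3 e with h' | h' | h'
    · exact absurd h' he
    · exact absurd h' he1
    · rwa [← h']
  refine pair_kill_symm E σ hs hc hij hkl hjk hil (E.w i k 1 * E.w j l 1) ?_ ?_ h3 h21 t u
  · rw [((E.mon_w hik one_ne_zero).mul E (E.mon_w hjl one_ne_zero)).2 i j hij]
    simp [Elem.wE, Equiv.swap_apply_of_ne_of_ne, hij, hij.symm, hik, Ne.symm hik, hil, hil.symm, hjk, hjk.symm, hjl,
      Ne.symm hjl, hkl, hkl.symm]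
  · rw [((E.mon_w hik one_ne_zero).mul E (E.mon_w hjl one_ne_zero)).2 k l hkl]
    simp [Elem.wE, Equiv.swap_apply_of_ne_of_ne, hij, hij.symm, hik, Ne.symm hik, hil, hil.symm, hjk, hjk.symm, hjl,
      Ne.symm hjl, hkl, hkl.symm]

theorem lift_commute (hn : 3 ≤ n) (hok : FieldOk n F) {i j k l : Fin n} (hij : i ≠ j) (hkl : k ≠ l) (hjk : j ≠ k)
    (hil : i ≠ l) (t u : F) {a b : Γ} (ha : σ a = E.x i j t) (hb : σ b = E.x k l u) : Commute a b := by
  rw [← commutatorElement_eq_one_iff_commute, comm_eq σ hs hc ha hb, cml_triv E σ hs hc hn hok hij hkl hjk hil]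

section Mid

variable (hn : 3 ≤ n) (hok : FieldOk n F) {i j l : Fin n} (hij : i ≠ j) (hjl : j ≠ l) (hil : i ≠ l)
include hn hok hij hjl hil

omit hc hn hok in
theorem σ_mid (t u : F) : σ (cml σ hs (E.x i j t) (E.x j l u)) = E.x i l (t * u) := by
  rw [σ_cml, E.comm i j l hij hjl hil]

theorem mid_add_left (t t' u : F) : cml σ hs (E.x i j (t + t')) (E.x j l u) =
    cml σ hs (E.x i j t) (E.x j l u) * cml σ hs (E.x i j t') (E.x j l u) := by
  rw [← E.add i j hij, cml_mul_left σ hs hc,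
    (lift_commute E σ hs hc hn hok hij hil hij.symm hil t (t' * u) (σ_lft σ hs _) (σ_mid E σ hs hij hjl hil t' u)).eq,
    mul_inv_cancel_right]
  exact (lift_commute E σ hs hc hn hok hil hil hil.symm hil (t' * u) (t * u) (σ_mid E σ hs hij hjl hil t' u)
    (σ_mid E σ hs hij hjl hil t u)).eq

theorem mid_add_right (t u u' : F) : cml σ hs (E.x i j t) (E.x j l (u + u')) =
    cml σ hs (E.x i j t) (E.x j l u) * cml σ hs (E.x i j t) (E.x j l u') := by
  rw [← E.add j l hjl, cml_mul_right σ hs hc,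
    (lift_commute E σ hs hc hn hok hjl hil hil.symm hjl u (t * u') (σ_lft σ hs _) (σ_mid E σ hs hij hjl hil t u')).eq,
    mul_inv_cancel_right]

theorem mid_move {m : Fin n} (hmi : m ≠ i) (hmj : m ≠ j) (hml : m ≠ l) (t u : F) :
    cml σ hs (E.x i j t) (E.x j l u) = cml σ hs (E.x i m (t * u)) (E.x m l 1) := by
  obtain ⟨a, ha⟩ : ∃ a, a = lft σ hs (E.x i j t) := ⟨_, rfl⟩
  obtain ⟨b, hb⟩ : ∃ b, b = lft σ hs (E.x j m u) := ⟨_, rfl⟩
  obtain ⟨c, hc'⟩ : ∃ c, c = lft σ hs (E.x m l 1) := ⟨_, rfl⟩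
  have sa : σ a = E.x i j t := by rw [ha, σ_lft]
  have sb : σ b = E.x j m u := by rw [hb, σ_lft]
  have sc : σ c = E.x m l 1 := by rw [hc', σ_lft]
  have sd : σ ⁅a, b⁆ = E.x i m (t * u) := by rw [map_commutatorElement, sa, sb, E.comm i j m hij hmj.symm hmi.symm]
  have sx : σ ⁅b, c⁆ = E.x j l u := by rw [map_commutatorElement, sb, sc, E.comm j m l hmj.symm hml hjl, mul_one]
  have sg : σ ⁅⁅a, b⁆, c⁆ = E.x i l (t * u) := by
    rw [map_commutatorElement, sd, sc, E.comm i m l hmi.symm hml hil, mul_one]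
  have hac : a * c * a⁻¹ = c := by
    rw [(lift_commute E σ hs hc hn hok hij hml hmj.symm hil t 1 sa sc).eq, mul_inv_cancel_right]
  have hdx : ⁅a, b⁆ * ⁅b, c⁆ * ⁅a, b⁆⁻¹ = ⁅b, c⁆ := by
    rw [(lift_commute E σ hs hc hn hok hmi.symm hjl hmj hil (t * u) u sd sx).eq, mul_inv_cancel_right]
  have hgx : ⁅b, c⁆ * ⁅⁅a, b⁆, c⁆ * ⁅b, c⁆⁻¹ = ⁅⁅a, b⁆, c⁆ := by
    rw [(lift_commute E σ hs hc hn hok hjl hil hil.symm hjl u (t * u) sx sg).eq, mul_inv_cancel_right]
  rw [← comm_eq σ hs hc sa sx, ← comm_eq σ hs hc sd sc]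
  have key : a * ⁅b, c⁆ * a⁻¹ = ⁅b, c⁆ * ⁅⁅a, b⁆, c⁆ := by
    calc a * ⁅b, c⁆ * a⁻¹ = ⁅a * b * a⁻¹, a * c * a⁻¹⁆ := by simp only [commutatorElement_def]; group
      _ = ⁅⁅a, b⁆ * b, c⁆ := by rw [hac, show a * b * a⁻¹ = ⁅a, b⁆ * b by simp only [commutatorElement_def]; group]
      _ = ⁅a, b⁆ * ⁅b, c⁆ * ⁅a, b⁆⁻¹ * ⁅⁅a, b⁆, c⁆ := by
        generalize ⁅a, b⁆ = d
        simp only [commutatorElement_def]; group
      _ = _ := by rw [hdx]
  rw [commutatorElement_def a, key, hgx]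

theorem mid_scal (hn3 : n = 3) (t u a : F) :
    cml σ hs (E.x i j (t * a)) (E.x j l u) = cml σ hs (E.x i j t) (E.x j l (a * u)) := by
  obtain ⟨f, hf⟩ : ∃ f : F → Γ, f = fun t =>
      cml σ hs (E.x i j (t * a)) (E.x j l u) * (cml σ hs (E.x i j t) (E.x j l (a * u)))⁻¹ := ⟨_, rfl⟩
  have hz : ∀ t, f t ∈ Subgroup.center Γ := fun t => hc (by
    rw [hf, MonoidHom.mem_ker, map_mul, map_inv, σ_mid E σ hs hij hjl hil, σ_mid E σ hs hij hjl hil, mul_assoc,
      mul_inv_cancel])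
  suffices h : f t = 1 by rw [hf] at h; exact mul_inv_eq_one.1 h
  obtain ⟨e, he, he3⟩ := hok.1 hn3
  have h0 : e ^ 3 - 1 ≠ 0 := sub_ne_zero.2 he3
  have hadd : ∀ t t', f (t + t') = f t * f t' := fun t t' => by
    have hq := hz t'
    rw [hf] at hq ⊢
    dsimp only at hq ⊢
    rw [add_mul, mid_add_left E σ hs hc hn hok hij hjl hil, mid_add_left E σ hs hc hn hok hij hjl hil,
      _root_.mul_inv_rev]
    generalize cml σ hs (E.x i j (t * a)) (E.x j l u) = A
    generalize cml σ hs (E.x i j (t' * a)) (E.x j l u) = A' at hq ⊢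
    generalize cml σ hs (E.x i j t) (E.x j l (a * u)) = B
    generalize cml σ hs (E.x i j t') (E.x j l (a * u)) = B' at hq ⊢
    calc A * A' * (B'⁻¹ * B⁻¹) = A * (A' * B'⁻¹) * B⁻¹ := by group
      _ = A * (B⁻¹ * (A' * B'⁻¹)) := by rw [Subgroup.mem_center_iff.1 hq B⁻¹]; group
      _ = _ := by group
  have hinv : ∀ t, f (e ^ 3 * t) = f t := fun t => by
    obtain ⟨p, hp⟩ : ∃ p, p = lft σ hs (E.h i j e * E.h i l e) := ⟨_, rfl⟩
    have hconj : p * f t * p⁻¹ = f (e ^ 3 * t) := by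
      rw [hp, hf]
      dsimp only
      rw [Elem.conj_mul_conj, cml_conj σ hs hc]
      rw [show ∀ (g y : Γ), g * y⁻¹ * g⁻¹ = (g * y * g⁻¹)⁻¹ from fun g y => by group, cml_conj σ hs hc]
      simp only [hh_conj E hij hil he hij, hh_conj E hij hil he hjl]
      rw [hE_self, hE_self, hE_snd hij, hE_other hij.symm hjl, hE_other hil.symm hjl.symm, hE_snd hil]
      congr 3 <;> (congr 1; field_simp)
    rw [← hconj, Subgroup.mem_center_iff.1 (hz t), mul_inv_cancel_right]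
  have h := hinv (t / (e ^ 3 - 1))
  rw [show e ^ 3 * (t / (e ^ 3 - 1)) = t / (e ^ 3 - 1) + t by field_simp; ring, hadd] at h
  exact mul_eq_left.1 h

end Mid

theorem mid_eq (hn : 3 ≤ n) (hok : FieldOk n F) {i j m l : Fin n} (hij : i ≠ j) (hjl : j ≠ l) (hil : i ≠ l)
    (him : i ≠ m) (hml : m ≠ l) (t u : F) :
    cml σ hs (E.x i j t) (E.x j l u) = cml σ hs (E.x i m (t * u)) (E.x m l 1) := by
  by_cases hjm : j = m
  · subst hjm
    by_cases hn3 : n = 3
    · have := mid_scal E σ hs hc hn hok hij hjl hil hn3 t 1 u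
      rw [mul_one] at this
      exact this.symm
    · obtain ⟨p, hp⟩ := exists_not_mem (s := {i, j, l}) (lt_of_le_of_lt Finset.card_le_three (by omega))
      simp only [Finset.mem_insert, Finset.mem_singleton, not_or] at hp
      rw [mid_move E σ hs hc hn hok hij hjl hil hp.1 hp.2.1 hp.2.2,
        mid_move E σ hs hc hn hok hij hjl hil hp.1 hp.2.1 hp.2.2, mul_one]
  · exact mid_move E σ hs hc hn hok hij hjl hil (Ne.symm him) (Ne.symm hjm) hml t u

omit hc in
/-- the section -/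
noncomputable def sec (i l : Fin n) (t : F) : Γ :=
  cml σ hs (E.x i (E.third i l).choose t) (E.x (E.third i l).choose l 1)

/-- every central extension carries elementary elements -/
theorem exists_sections (hn : 3 ≤ n) (hok : FieldOk n F) :
    ∃ E' : Elem (Fin n) F Γ, ∀ i j, i ≠ j → ∀ t, σ (E'.x i j t) = E.x i j t := by
  have hp : ∀ i l : Fin n, (E.third i l).choose ≠ i ∧ (E.third i l).choose ≠ l := fun i l =>
    (E.third i l).choose_spec
  have hσ : ∀ i l, i ≠ l → ∀ t, σ (sec E σ hs i l t) = E.x i l t := fun i l hil t => by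
    rw [sec, σ_mid E σ hs (hp i l).1.symm (hp i l).2 hil, mul_one]
  refine ⟨⟨sec E σ hs, fun i l hil t u => ?_, fun i j l hij hjl hil t u => ?_,
    fun i j k l hij hkl hjk hil t u => ?_, E.third⟩, hσ⟩
  · exact (mid_add_left E σ hs hc hn hok (hp i l).1.symm (hp i l).2 hil t u 1).symm
  · rw [comm_eq σ hs hc (hσ i j hij t) (hσ j l hjl u),
      mid_eq E σ hs hc hn hok hij hjl hil (hp i l).1.symm (hp i l).2]
    rfl
  · exact lift_commute E σ hs hc hn hok hij hkl hjk hil t u (hσ i j hij t) (hσ k l hkl u)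

end CfsgLib.Known.SLn
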