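import Cfsg.Agent.Lib.Known.SLn.Elem
import Cfsg.Agent.Lib.Classical.SLGroup

/-!
# Transvections satisfy the elementary relations
-/

set_option autoImplicit false

namespace CfsgLib.Known.SLn

open Matrix
open scoped commutatorElement

variable {ι F : Type*} [Fintype ι] [DecidableEq ι] [Field F]

theorem tr_add {i j : ι} (hij : i ≠ j) (t u : F) :
    SpecialLinearGroup.transvection hij t * SpecialLinearGroup.transvection hij u =
      SpecialLinearGroup.transvection hij (t + u) := by
  refine CfsgLib.Classical.sl_ext_smul fun x => funext fun l => ?_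
  simp only [mul_smul, CfsgLib.Classical.transvection_smul_apply]
  by_cases hli : l = i
  · subst hli; simp [hij.symm]; ring
  · simp [hli]

theorem tr_comm {i j l : ι} (hij : i ≠ j) (hjl : j ≠ l) (hil : i ≠ l) (t u : F) :
    ⁅SpecialLinearGroup.transvection hij t, SpecialLinearGroup.transvection hjl u⁆ =
      SpecialLinearGroup.transvection hil (t * u) := by
  rw [commutatorElement_def, SpecialLinearGroup.transvection_inv, SpecialLinearGroup.transvection_inv]
  refine CfsgLib.Classical.sl_ext_smul fun x => funext fun m => ?_
  simp only [mul_smul, CfsgLib.Classical.transvection_smul_apply]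
  by_cases hmi : m = i
  · subst hmi
    simp [hij, hij.symm, hjl, hjl.symm, hil, hil.symm]
    ring
  · by_cases hmj : m = j
    · subst hmj
      simp [hij, hij.symm, hjl, hjl.symm, hil, hil.symm]
    · simp [hmi, hmj]

theorem tr_triv {i j k l : ι} (hij : i ≠ j) (hkl : k ≠ l) (hjk : j ≠ k) (hil : i ≠ l) (t u : F) :
    Commute (SpecialLinearGroup.transvection hij t) (SpecialLinearGroup.transvection hkl u) := by
  refine CfsgLib.Classical.sl_ext_smul fun x => funext fun m => ?_
  simp only [mul_smul, CfsgLib.Classical.transvection_smul_apply]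
  by_cases hmi : m = i
  · subst hmi
    simp [hij, hjk, hil, hil.symm]
    split_ifs <;> ring
  · by_cases hmk : m = k
    · subst hmk
      simp [hmi, hil.symm, hjk]
    · simp [hmi, hmk]

variable (ι F) in
/-- the transvections of `SL` as a family of elementary root elements -/
def slElem (hthird : ∀ i j : ι, ∃ k, k ≠ i ∧ k ≠ j) : Elem ι F (SpecialLinearGroup ι F) where
  x i j t := if h : i ≠ j then SpecialLinearGroup.transvection h t else 1
  add i j hij t u := by simp only [dif_pos hij]; exact tr_add hij t u
  comm i j l hij hjl hil t u := by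
    simp only [dif_pos hij, dif_pos hjl, dif_pos hil]; exact tr_comm hij hjl hil t u
  triv i j k l hij hkl hjk hil t u := by
    simp only [dif_pos hij, dif_pos hkl]; exact tr_triv hij hkl hjk hil t u
  third := hthird

theorem slElem_x (hthird : ∀ i j : ι, ∃ k, k ≠ i ∧ k ≠ j) {i j : ι} (hij : i ≠ j) (t : F) :
    (slElem ι F hthird).x i j t = SpecialLinearGroup.transvection hij t := dif_pos hij

end CfsgLib.Known.SLn
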