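import Cfsg.Agent.Lib.Known.SLn.Faithful
import Cfsg.Agent.Lib.Known.SLn.Transvection
import Cfsg.Agent.Lib.Known.SLn.Sections
import Cfsg.Agent.Lib.Known.SL2Multiplier
import Cfsg.Agent.Lib.Classical.LinearOrder
import Cfsg.Agent.Lib.Schur.Perfect

/-!
# The Schur multipliers of `SL n` and `PSL n`
-/

set_option autoImplicit false

namespace CfsgLib.Known.SLn

open Matrix

universe u v w

variable {F : Type u} [Field F] [Finite F]

/-- universality: a finite stem extension of `SL n` is trivial -/
theorem ker_eq_bot_of_stem {n : ℕ} (hn : 3 ≤ n) (hok : FieldOk n F) {Γ : Type v} [Group Γ]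
    (σ : Γ →* SpecialLinearGroup (Fin n) F) (hσ : Cfsg.IsStemExtension σ) : σ.ker = ⊥ := by
  obtain ⟨hs, hc, hd⟩ := hσ
  obtain ⟨E', hE'⟩ := exists_sections (slElem (Fin n) F (CfsgLib.Classical.exists_third hn)) σ hs hc hn hok
  obtain ⟨S, hS⟩ : ∃ S : Set Γ, S = {g | ∃ i j t, i ≠ j ∧ g = E'.x i j t} := ⟨_, rfl⟩
  have hmem : ∀ i j, i ≠ j → ∀ t, E'.x i j t ∈ Subgroup.closure S := fun i j h t =>
    Subgroup.subset_closure (by rw [hS]; exact ⟨i, j, t, h, rfl⟩)
  let EH : Elem (Fin n) F (Subgroup.closure S) :=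
    { x := fun i j t => if h : i ≠ j then ⟨E'.x i j t, hmem i j h t⟩ else 1
      add := fun i j hij t u => by simp only [dif_pos hij]; exact Subtype.ext (E'.add i j hij t u)
      comm := fun i j l hij hjl hil t u => by
        simp only [dif_pos hij, dif_pos hjl, dif_pos hil]; exact Subtype.ext (E'.comm i j l hij hjl hil t u)
      triv := fun i j k l hij hkl hjk hil t u => by
        simp only [dif_pos hij, dif_pos hkl]; exact Subtype.ext (E'.triv i j k l hij hkl hjk hil t u).eq
      third := E'.third }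
  have hgen : EH.Gen := by
    refine eq_top_iff.2 (Subgroup.closure_closure_coe_preimage.ge.trans (Subgroup.closure_mono ?_))
    intro g hg
    have hg' : (g : Γ) ∈ {g | ∃ i j t, i ≠ j ∧ g = E'.x i j t} := hS ▸ hg
    obtain ⟨i, j, t, h, e⟩ := hg'
    refine ⟨i, j, t, h, Subtype.ext ?_⟩
    simp only [EH, dif_pos h]
    exact e
  have hθ : ∀ i j, i ≠ j → ∀ t, ((σ.comp (Subgroup.closure S).subtype) (EH.x i j t) :
      Matrix (Fin n) (Fin n) F) = Matrix.transvection i j t := fun i j h t => by
    simp only [EH, dif_pos h, MonoidHom.comp_apply, Subgroup.coe_subtype]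
    rw [hE' i j h, slElem_x _ h]
    rfl
  have hinj := injective_of_gen (E := EH) (σ.comp (Subgroup.closure S).subtype) hθ hgen (by omega)
  have : Nontrivial (Fin n) := Fin.nontrivial_iff_two_le.2 (by omega)
  have hmap : (Subgroup.closure S).map σ = ⊤ := CfsgLib.Classical.closure_transvection_eq_top _ fun i j h c =>
    ⟨_, hmem i j h c, by rw [hE' i j h, slElem_x _ h]⟩
  have hcomm : commutator Γ ≤ Subgroup.closure S := by
    rw [commutator_def, Subgroup.commutator_le]
    intro a _ b _
    obtain ⟨a', ha', ea⟩ : σ a ∈ (Subgroup.closure S).map σ := by rw [hmap]; exact Subgroup.mem_top _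
    obtain ⟨b', hb', eb⟩ : σ b ∈ (Subgroup.closure S).map σ := by rw [hmap]; exact Subgroup.mem_top _
    rw [comm_eq σ hs hc (rfl : σ a = σ a) (rfl : σ b = σ b), ← comm_eq σ hs hc ea eb]
    exact mul_mem (mul_mem (mul_mem ha' hb') (inv_mem ha')) (inv_mem hb')
  refine (Subgroup.eq_bot_iff_forall _).2 fun z hz => ?_
  exact congrArg Subtype.val ((injective_iff_map_eq_one _).1 hinj ⟨z, hcomm (hd hz)⟩ (MonoidHom.mem_ker.1 hz))

/-- a perfect group without nontrivial stem extensions is the cover of its central quotients -/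
theorem hasSchurMultiplier_of_cover {Δ : Type v} [Group Δ] [Finite Δ] (hperf : commutator Δ = ⊤)
    (htriv : ∀ (Γ : Type v) [Group Γ] [Finite Γ] (σ : Γ →* Δ), Cfsg.IsStemExtension σ → σ.ker = ⊥)
    {Q : Type v} [Group Q] [Finite Q] (θ : Δ →* Q) (hθ : Function.Surjective θ) (hker : θ.ker ≤ Subgroup.center Δ)
    {A : Type w} [CommGroup A] (e : θ.ker ≃* A) : Cfsg.HasSchurMultiplier Q A := by
  refine CfsgLib.Schur.hasSchurMultiplier_of_witness θ ⟨hθ, hker, by rw [hperf]; exact le_top⟩ e ?_
  intro Γ _ _ σ hσ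
  obtain ⟨hσs, hσc, hσd⟩ := hσ
  have hQ : commutator Q = ⊤ := by
    have h1 : (commutator Δ).map θ ≤ commutator Q := by
      rw [commutator_def, commutator_def, Subgroup.map_commutator]
      exact Subgroup.commutator_mono le_top le_top
    rw [hperf, Subgroup.map_top_of_surjective θ hθ] at h1
    exact top_le_iff.1 h1
  have hΓ : commutator Γ = ⊤ := CfsgLib.Schur.commutator_eq_top_of_central hQ σ hσs hσd
  let P : Subgroup (Γ × Δ) := (σ.comp (MonoidHom.fst _ _)).eqLocus (θ.comp (MonoidHom.snd _ _))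
  let π : P →* Δ := (MonoidHom.snd _ _).comp P.subtype
  have hπs : Function.Surjective π := fun x => by
    obtain ⟨g, hg⟩ := hσs (θ x)
    exact ⟨⟨(g, x), hg⟩, rfl⟩
  have hπc : π.ker ≤ Subgroup.center P := fun y hy => by
    rw [Subgroup.mem_center_iff]
    intro z
    have h2 : (y : Γ × Δ).2 = 1 := hy
    have h1 : σ (y : Γ × Δ).1 = 1 := by
      have := y.2
      change σ (y : Γ × Δ).1 = θ (y : Γ × Δ).2 at this
      rw [this, h2, map_one]
    refine Subtype.ext (Prod.ext ?_ ?_)
    · exact Subgroup.mem_center_iff.1 (hσc h1) _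
    · show _ * (y : Γ × Δ).2 = (y : Γ × Δ).2 * _
      rw [h2, mul_one, one_mul]
  let fst' : P →* Γ := (MonoidHom.fst _ _).comp P.subtype
  have hfst : Function.Surjective fst' := fun g => by
    obtain ⟨x, hx⟩ := hθ (σ g)
    exact ⟨⟨(g, x), hx.symm⟩, rfl⟩
  have hmapc : ∀ {H : Type v} [Group H] (f : P →* H), Function.Surjective f → commutator H = ⊤ →
      Function.Surjective (f.comp (commutator P).subtype) := by
    intro H _ f hf hH h
    have : h ∈ (commutator P).map f := by
      rw [commutator_def, Subgroup.map_commutator, Subgroup.map_top_of_surjective f hf, ← commutator_def, hH]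
      exact Subgroup.mem_top _
    obtain ⟨x, hx, e⟩ := this
    exact ⟨⟨x, hx⟩, e⟩
  let π' : commutator P →* Δ := π.comp (commutator P).subtype
  have hsup : commutator P ⊔ π.ker = ⊤ := eq_top_iff.2 fun g _ => by
    obtain ⟨x, hx⟩ := hmapc π hπs hperf (π g)
    rw [show g = (x : P) * ((x : P)⁻¹ * g) by group]
    exact Subgroup.mul_mem_sup x.2 (by
      rw [MonoidHom.mem_ker, map_mul, map_inv, show π (x : P) = π g from hx, inv_mul_cancel])
  have hperf' : commutator (commutator P) = ⊤ := by
    have hsup' : (commutator P).subtype.range ⊔ π.ker = ⊤ := by rw [Subgroup.range_subtype]; exact hsup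
    have h := CfsgLib.Schur.commutator_eq_map_of_range_sup (commutator P).subtype π.ker hπc hsup'
    refine top_le_iff.1 fun x _ => ?_
    have hx : (x : P) ∈ (commutator (commutator P)).map (commutator P).subtype := h ▸ x.2
    obtain ⟨y, hy, e⟩ := hx
    rwa [← Subtype.ext e]
  have hstem : Cfsg.IsStemExtension π' := ⟨hmapc π hπs hperf, fun y hy => by
      rw [Subgroup.mem_center_iff]
      exact fun z => Subtype.ext (Subgroup.mem_center_iff.1 (hπc hy) _), by rw [hperf']; exact le_top⟩
  have hinj : Function.Injective π' := (MonoidHom.ker_eq_bot_iff _).1 (htriv _ π' hstem)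
  have hle : Nat.card Γ ≤ Nat.card Δ :=
    (Nat.card_le_card_of_surjective _ (hmapc fst' hfst hΓ)).trans (Nat.card_le_card_of_injective π' hinj)
  rw [← Nat.card_congr e.toEquiv]
  have h1 : Nat.card σ.ker * Nat.card Q = Nat.card Γ := by
    rw [show Nat.card Q = σ.ker.index by rw [Subgroup.index_ker, MonoidHom.range_eq_top.2 hσs, Subgroup.card_top]]
    exact Subgroup.card_mul_index _
  have h2 : Nat.card θ.ker * Nat.card Q = Nat.card Δ := by
    rw [show Nat.card Q = θ.ker.index by rw [Subgroup.index_ker, MonoidHom.range_eq_top.2 hθ, Subgroup.card_top]]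
    exact Subgroup.card_mul_index _
  exact Nat.le_of_mul_le_mul_right (by rw [h1, h2]; exact hle) Nat.card_pos

theorem exists_pow_ne_one (k : ℕ) (h : ¬ (Nat.card F - 1 ∣ k)) : ∃ e : F, e ≠ 0 ∧ e ^ k ≠ 1 := by
  classical
  obtain ⟨g, hg⟩ := IsCyclic.exists_generator (α := Fˣ)
  refine ⟨g, g.ne_zero, fun e => h ?_⟩
  have : orderOf g = Nat.card F - 1 := by rw [orderOf_eq_card_of_forall_mem_zpowers hg, Nat.card_units]
  rw [← this]
  exact orderOf_dvd_of_pow_eq_one (Units.ext (by rw [Units.val_pow_eq_pow_val, Units.val_one]; exact e))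

theorem fieldOk_of (n : ℕ) (h3 : n = 3 → Nat.card F ≠ 2 ∧ Nat.card F ≠ 4) (h4 : n = 4 → Nat.card F ≠ 2) :
    FieldOk n F := by
  have h2 := Finite.one_lt_card (α := F)
  constructor
  · intro hn
    refine exists_pow_ne_one 3 fun hd => ?_
    have := h3 hn
    rcases (Nat.dvd_prime Nat.prime_three).1 hd with h | h <;> omega
  · intro hn
    obtain ⟨e, he, he1⟩ := exists_pow_ne_one (F := F) 1 fun hd => by
      have := h4 hn
      have := Nat.dvd_one.1 hd
      omega
    exact ⟨e, he, by simpa using he1⟩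

end CfsgLib.Known.SLn
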