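import Cfsg.Agent.Lib.Known.SLn.Elem

/-!
# Faithfulness of the elementary presentation of `SL n` over a finite field
-/

set_option autoImplicit false

namespace CfsgLib.Known.SLn

open Matrix

variable {n : ℕ} {F G : Type*} [Field F] [Group G] (E : Elem (Fin n) F G)

/-- conjugation in both directions keeps `K` -/
def Norms (g : G) (K : Subgroup G) : Prop := ∀ y ∈ K, g * y * g⁻¹ ∈ K ∧ g⁻¹ * y * g ∈ K

theorem norms_closure {S : Set G} {K : Subgroup G} (hS : ∀ s ∈ S, Norms s K) :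
    ∀ g ∈ Subgroup.closure S, Norms g K := by
  intro g hg
  induction hg using Subgroup.closure_induction with
  | mem s hs => exact hS s hs
  | one => exact fun y hy => ⟨by simpa using hy, by simpa using hy⟩
  | mul a b _ _ ha hb =>
    exact fun y hy => ⟨by simpa [mul_assoc] using (ha _ (hb y hy).1).1, by simpa [mul_assoc] using (hb _ (ha y hy).2).2⟩
  | inv a _ ha => exact fun y hy => ⟨by simpa using (ha y hy).2, by simpa using (ha y hy).1⟩

theorem conj_closure {S : Set G} {K : Subgroup G} {g : G} (h : ∀ s ∈ S, g * s * g⁻¹ ∈ K) :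
    ∀ y ∈ Subgroup.closure S, g * y * g⁻¹ ∈ K := by
  intro y hy
  induction hy using Subgroup.closure_induction with
  | mem s hs => exact h s hs
  | one => simp
  | mul a b _ _ ha hb => rw [Elem.conj_mul_conj]; exact mul_mem ha hb
  | inv a _ ha => rw [show g * a⁻¹ * g⁻¹ = (g * a * g⁻¹)⁻¹ by group]; exact inv_mem ha

/-- root elements with indices at least `k` -/
def blk (k : ℕ) : Subgroup G :=
  Subgroup.closure {g | ∃ a b : Fin n, ∃ t : F, k ≤ a.1 ∧ k ≤ b.1 ∧ a ≠ b ∧ g = E.x a b t}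

/-- the stabiliser of the line of `i` inside `blk i` -/
def par (i : Fin n) : Subgroup G :=
  Subgroup.closure ({g | ∃ a b : Fin n, ∃ t : F, i.1 ≤ a.1 ∧ i.1 ≤ b.1 ∧ a ≠ b ∧ b ≠ i ∧ g = E.x a b t} ∪
    {g | ∃ a b : Fin n, ∃ c : F, i.1 ≤ a.1 ∧ i.1 ≤ b.1 ∧ a ≠ b ∧ c ≠ 0 ∧ g = E.h a b c})

/-- the row of `i` -/
def rowGp (i : Fin n) : Subgroup G :=
  Subgroup.closure {g | ∃ b : Fin n, ∃ t : F, i.1 < b.1 ∧ g = E.x i b t}

/-- the row of `i` without `j` -/
def rowRest (i j : Fin n) : Subgroup G :=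
  Subgroup.closure {g | ∃ b : Fin n, ∃ t : F, i.1 < b.1 ∧ b ≠ j ∧ g = E.x i b t}

variable {E}

theorem x_mem_blk {k : ℕ} {a b : Fin n} (ha : k ≤ a.1) (hb : k ≤ b.1) (hab : a ≠ b) (t : F) : E.x a b t ∈ blk E k :=
  Subgroup.subset_closure ⟨a, b, t, ha, hb, hab, rfl⟩

theorem x_mem_par {i a b : Fin n} (ha : i.1 ≤ a.1) (hb : i.1 ≤ b.1) (hab : a ≠ b) (hbi : b ≠ i) (t : F) :
    E.x a b t ∈ par E i :=
  Subgroup.subset_closure (Or.inl ⟨a, b, t, ha, hb, hab, hbi, rfl⟩)

theorem h_mem_par {i a b : Fin n} (ha : i.1 ≤ a.1) (hb : i.1 ≤ b.1) (hab : a ≠ b) {c : F} (hc : c ≠ 0) :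
    E.h a b c ∈ par E i :=
  Subgroup.subset_closure (Or.inr ⟨a, b, c, ha, hb, hab, hc, rfl⟩)

theorem w_mem_blk {k : ℕ} {a b : Fin n} (ha : k ≤ a.1) (hb : k ≤ b.1) (hab : a ≠ b) (c : F) : E.w a b c ∈ blk E k :=
  mul_mem (mul_mem (x_mem_blk ha hb hab c) (x_mem_blk hb ha hab.symm _)) (x_mem_blk ha hb hab c)

theorem w_mem_par {i a b : Fin n} (ha : i.1 ≤ a.1) (hb : i.1 ≤ b.1) (hab : a ≠ b) (hai : a ≠ i) (hbi : b ≠ i)
    (c : F) : E.w a b c ∈ par E i :=
  mul_mem (mul_mem (x_mem_par ha hb hab hbi c) (x_mem_par hb ha hab.symm hai _)) (x_mem_par ha hb hab hbi c)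

theorem par_le_blk (i : Fin n) : par E i ≤ blk E i.1 := (Subgroup.closure_le _).2 (by
  rintro _ (⟨a, b, t, ha, hb, hab, -, rfl⟩ | ⟨a, b, c, ha, hb, hab, -, rfl⟩)
  · exact x_mem_blk ha hb hab t
  · exact mul_mem (w_mem_blk ha hb hab c) (w_mem_blk ha hb hab _))

theorem blk_succ_le_par {i : Fin n} : blk E (i.1 + 1) ≤ par E i := (Subgroup.closure_le _).2 (by
  rintro _ ⟨a, b, t, ha, hb, hab, rfl⟩
  exact x_mem_par (by omega) (by omega) hab (fun e => by rw [e] at hb; omega) t)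

theorem rowGp_le_par {i : Fin n} : rowGp E i ≤ par E i := (Subgroup.closure_le _).2 (by
  rintro _ ⟨b, t, hb, rfl⟩
  have hib : i ≠ b := fun e => by rw [e] at hb; omega
  exact x_mem_par le_rfl hb.le hib hib.symm t)

theorem rowRest_le (i j : Fin n) : rowRest E i j ≤ rowGp E i :=
  Subgroup.closure_mono (by rintro _ ⟨b, t, hb, -, rfl⟩; exact ⟨b, t, hb, rfl⟩)

/-- monomial images of diagonal elements -/
theorem conj_h {g : G} {π : Equiv.Perm (Fin n)} {e : Fin n → F} (hm : E.Mon g π e) {a b : Fin n} (hab : a ≠ b)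
    (c : F) : g * E.h a b c * g⁻¹ = E.h (π a) (π b) (e a * c / e b) * (E.h (π a) (π b) (e a / e b))⁻¹ := by
  unfold Elem.h
  rw [Elem.conj_mul_conj, hm.conj_w E hab, hm.conj_w E hab, show e a * (-1 : F) / e b = -(e a / e b) by ring,
    E.w_neg (π.injective.ne hab)]
  group

theorem h_rev [Finite F] (hgen : E.Gen) {a b : Fin n} (hab : a ≠ b) {c : F} (hc : c ≠ 0) :
    E.h a b c = E.h b a c⁻¹ := by
  have h1 : E.h a b c = E.h b a (-c⁻¹) * (E.h b a (-1))⁻¹ := by
    unfold Elem.h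
    rw [E.w_rev hab hc, E.w_rev hab (c := (-1 : F)) (by norm_num), E.w_neg hab.symm 1, inv_neg, inv_one, neg_neg]
    group
  rw [h1, mul_inv_eq_iff_eq_mul, E.h_mul hgen hab.symm (inv_ne_zero hc) (by norm_num), mul_neg, mul_one]

theorem h_inv [Finite F] (hgen : E.Gen) {a b : Fin n} (hab : a ≠ b) {c : F} (hc : c ≠ 0) :
    (E.h a b c)⁻¹ = E.h a b c⁻¹ := by
  rw [inv_eq_iff_mul_eq_one, E.h_mul hgen hab hc (inv_ne_zero hc), mul_inv_cancel₀ hc, E.h_one hab]

theorem rowGp_comm {i : Fin n} {b l : Fin n} (hb : i.1 < b.1) (hl : i.1 < l.1) (t u : F) :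
    Commute (E.x i b t) (E.x i l u) := by
  have h1 : i ≠ b := fun e => by rw [e] at hb; omega
  have h2 : i ≠ l := fun e => by rw [e] at hl; omega
  exact E.triv i b i l h1 h2 h1.symm h2 t u

theorem blk_norms_row {i : Fin n} : ∀ g ∈ blk E (i.1 + 1), Norms g (rowGp E i) := by
  refine norms_closure ?_
  rintro _ ⟨a, b, t, ha, hb, hab, rfl⟩
  have key : ∀ t, ∀ y ∈ rowGp E i, E.x a b t * y * (E.x a b t)⁻¹ ∈ rowGp E i := by
    intro t
    refine conj_closure ?_
    rintro _ ⟨l, u, hl, rfl⟩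
    have h1 : i ≠ a := fun e => by rw [← e] at ha; omega
    have h2 : i ≠ b := fun e => by rw [← e] at hb; omega
    have h3 : i ≠ l := fun e => by rw [e] at hl; omega
    by_cases hla : l = a
    · subst hla
      rw [E.x_right hab h1 h2]
      exact mul_mem (Subgroup.subset_closure ⟨b, _, by omega, rfl⟩) (Subgroup.subset_closure ⟨l, _, hl, rfl⟩)
    · rw [E.x_fix hab h3 h2.symm (Ne.symm hla)]
      exact Subgroup.subset_closure ⟨l, _, hl, rfl⟩
  exact fun y hy => ⟨key t y hy, by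
    have := key (-t) y hy
    rwa [E.x_neg hab, inv_inv] at this⟩

theorem h_norms [Finite F] (hgen : E.Gen) {a b : Fin n} (hab : a ≠ b) {c : F} (hc : c ≠ 0) (S : Set (Fin n × Fin n))
    (hS : ∀ p ∈ S, p.1 ≠ p.2) :
    Norms (E.h a b c) (Subgroup.closure {g | ∃ p ∈ S, ∃ t : F, g = E.x p.1 p.2 t}) := by
  have key : ∀ c : F, c ≠ 0 → ∀ y ∈ Subgroup.closure {g | ∃ p ∈ S, ∃ t : F, g = E.x p.1 p.2 t},
      E.h a b c * y * (E.h a b c)⁻¹ ∈ Subgroup.closure {g | ∃ p ∈ S, ∃ t : F, g = E.x p.1 p.2 t} := by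
    intro c hc
    refine conj_closure ?_
    rintro _ ⟨p, hp, t, rfl⟩
    rw [(E.mon_h hab hc).2 p.1 p.2 (hS p hp)]
    exact Subgroup.subset_closure ⟨p, hp, _, rfl⟩
  exact fun y hy => ⟨key c hc y hy, by
    have := key c⁻¹ (inv_ne_zero hc) y hy
    rwa [← h_inv hgen hab hc, inv_inv] at this⟩

theorem h_norms_row [Finite F] (hgen : E.Gen) {i a b : Fin n} (hab : a ≠ b) {c : F} (hc : c ≠ 0) :
    Norms (E.h a b c) (rowGp E i) := by
  have h := h_norms hgen hab hc {p | p.1 = i ∧ i.1 < p.2.1} (fun p ⟨h1, h2⟩ e => by rw [← e, h1] at h2; omega)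
  convert h using 2
  refine congrArg Subgroup.closure (Set.ext fun g => ⟨?_, ?_⟩)
  · rintro ⟨l, t, hl, rfl⟩; exact ⟨(i, l), ⟨rfl, hl⟩, t, rfl⟩
  · rintro ⟨⟨p, l⟩, ⟨hp, hl⟩, t, rfl⟩
    obtain rfl : p = i := hp
    exact ⟨l, t, hl, rfl⟩

theorem h_norms_blk [Finite F] (hgen : E.Gen) {k : ℕ} {a b : Fin n} (hab : a ≠ b) {c : F} (hc : c ≠ 0) :
    Norms (E.h a b c) (blk E k) := by
  have h := h_norms hgen hab hc {p | k ≤ p.1.1 ∧ k ≤ p.2.1 ∧ p.1 ≠ p.2} fun p hp => hp.2.2
  convert h using 2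
  refine congrArg Subgroup.closure (Set.ext fun g => ⟨?_, ?_⟩)
  · rintro ⟨p, q, t, h1, h2, h3, rfl⟩; exact ⟨(p, q), ⟨h1, h2, h3⟩, t, rfl⟩
  · rintro ⟨⟨p, q⟩, ⟨h1, h2, h3⟩, t, rfl⟩; exact ⟨p, q, t, h1, h2, h3, rfl⟩

section Step

variable [Finite F] (hgen : E.Gen) {i j : Fin n} (hj : j.1 = i.1 + 1)
include hgen hj

omit hgen [Finite F] in
theorem ne_ij : i ≠ j := fun e => by rw [e] at hj; omega

theorem par_decomp : ∀ p ∈ par E i, ∃ v ∈ rowGp E i, ∃ β ∈ blk E (i.1 + 1), ∃ c : F, c ≠ 0 ∧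
    p = v * β * E.h i j c := by
  have hij := ne_ij hj
  have hmul : ∀ {v v' β β' : G} {c c' : F}, v ∈ rowGp E i → v' ∈ rowGp E i → β ∈ blk E (i.1 + 1) →
      β' ∈ blk E (i.1 + 1) → c ≠ 0 → c' ≠ 0 → ∃ v'' ∈ rowGp E i, ∃ β'' ∈ blk E (i.1 + 1), ∃ d : F, d ≠ 0 ∧
        v * β * E.h i j c * (v' * β' * E.h i j c') = v'' * β'' * E.h i j d := by
    intro v v' β β' c c' hv hv' hβ hβ' hc hc'
    refine ⟨_, mul_mem hv (blk_norms_row β hβ _ (h_norms_row hgen hij hc v' hv').1).1, _,
      mul_mem hβ (h_norms_blk hgen hij hc β' hβ').1, c * c', mul_ne_zero hc hc', ?_⟩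
    rw [← E.h_mul hgen hij hc hc']
    group
  intro p hp
  induction hp using Subgroup.closure_induction with
  | one => exact ⟨1, one_mem _, 1, one_mem _, 1, one_ne_zero, by rw [E.h_one hij, one_mul, one_mul]⟩
  | mem g hg =>
    rcases hg with ⟨a, b, t, ha, hb, hab, hbi, rfl⟩ | ⟨a, b, c, ha, hb, hab, hc, rfl⟩
    · have hb' : i.1 < b.1 := lt_of_le_of_ne hb fun e => hbi (Fin.ext e.symm)
      by_cases hai : a = i
      · subst hai
        exact ⟨_, Subgroup.subset_closure ⟨b, t, hb', rfl⟩, 1, one_mem _, 1, one_ne_zero,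
          by rw [E.h_one hij, mul_one, mul_one]⟩
      · refine ⟨1, one_mem _, _, x_mem_blk ?_ hb' hab t, 1, one_ne_zero, by rw [E.h_one hij, mul_one, one_mul]⟩
        exact lt_of_le_of_ne ha fun e => hai (Fin.ext e.symm)
    · have key : ∀ {b : Fin n} {c : F}, i.1 < b.1 → c ≠ 0 → ∃ β ∈ blk E (i.1 + 1), E.h i b c = β * E.h i j c := by
        intro b c hb hc
        by_cases hbj : b = j
        · subst hbj; exact ⟨1, one_mem _, (one_mul _).symm⟩
        · have hib : i ≠ b := fun e => by rw [e] at hb; omega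
          obtain ⟨W, hW⟩ : ∃ W, W = E.w b j 1 := ⟨_, rfl⟩
          have hWm : W ∈ blk E (i.1 + 1) := hW ▸ w_mem_blk hb (by omega) hbj _
          refine ⟨W * (E.h i j c * W⁻¹ * (E.h i j c)⁻¹),
            mul_mem hWm (h_norms_blk hgen hij hc _ (inv_mem hWm)).1, ?_⟩
          have h1 := conj_h (E.mon_w hbj (one_ne_zero (α := F))) hij c
          rw [Equiv.swap_apply_right, Equiv.swap_apply_of_ne_of_ne hib hij,
            show Elem.wE b j (1 : F) i = 1 by simp [Elem.wE, hib, hij],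
            show Elem.wE b j (1 : F) j = 1 by simp [Elem.wE, Ne.symm hbj], one_mul, div_one, div_one,
            E.h_one hib, inv_one, mul_one, ← hW] at h1
          rw [← h1]
          group
      by_cases hai : a = i
      · subst hai
        obtain ⟨β, hβ, e⟩ := key (lt_of_le_of_ne hb fun e => hab (Fin.ext e)) hc
        exact ⟨1, one_mem _, β, hβ, c, hc, by rw [one_mul, e]⟩
      by_cases hbi : b = i
      · subst hbi
        obtain ⟨β, hβ, e⟩ := key (lt_of_le_of_ne ha fun e => hai (Fin.ext e.symm)) (inv_ne_zero hc)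
        exact ⟨1, one_mem _, β, hβ, c⁻¹, inv_ne_zero hc, by rw [one_mul, h_rev hgen hab hc, e]⟩
      · refine ⟨1, one_mem _, _, mul_mem (w_mem_blk ?_ ?_ hab c) (w_mem_blk ?_ ?_ hab _), 1, one_ne_zero,
          by rw [E.h_one hij, mul_one, one_mul]; rfl⟩
        all_goals first
          | exact lt_of_le_of_ne ha fun e => hai (Fin.ext e.symm)
          | exact lt_of_le_of_ne hb fun e => hbi (Fin.ext e.symm)
  | mul p q _ _ hp hq =>
    obtain ⟨v, hv, β, hβ, c, hc, rfl⟩ := hp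
    obtain ⟨v', hv', β', hβ', c', hc', rfl⟩ := hq
    exact hmul hv hv' hβ hβ' hc hc'
  | inv p _ hp =>
    obtain ⟨v, hv, β, hβ, c, hc, rfl⟩ := hp
    refine ⟨_, (h_norms_row hgen hij (inv_ne_zero hc) _ ((blk_norms_row _ (inv_mem hβ)) _ (inv_mem hv)).1).1, _,
      (h_norms_blk hgen hij (inv_ne_zero hc) _ (inv_mem hβ)).1, c⁻¹, inv_ne_zero hc, ?_⟩
    rw [← h_inv hgen hij hc]
    group

theorem conj_par {c : F} (hc : c ≠ 0) : ∀ y ∈ par E j, E.w i j c * y * (E.w i j c)⁻¹ ∈ par E i := by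
  have hij := ne_ij hj
  obtain ⟨h0, h1⟩ := E.mon_w hij hc
  refine conj_closure ?_
  rintro _ (⟨a, b, t, ha, hb, hab, hbj, rfl⟩ | ⟨a, b, d, ha, hb, hab, hd, rfl⟩)
  · have hbi : b ≠ i := fun e => by rw [e] at hb; omega
    rw [h1 a b hab, Equiv.swap_apply_of_ne_of_ne hbi hbj]
    refine x_mem_par ?_ (by omega) ?_ hbi _
    · rw [Equiv.swap_apply_def]; split_ifs <;> omega
    · conv_rhs => rw [← Equiv.swap_apply_of_ne_of_ne hbi hbj]
      exact (Equiv.injective _).ne hab
  · rw [conj_h (E.mon_w hij hc) hab]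
    have hle : ∀ k : Fin n, j.1 ≤ k.1 → i.1 ≤ (Equiv.swap i j k).1 := fun k hk => by
      rw [Equiv.swap_apply_def]; split_ifs <;> omega
    refine mul_mem (h_mem_par (hle a ha) (hle b hb) ((Equiv.injective _).ne hab)
        (div_ne_zero (mul_ne_zero (h0 a) hd) (h0 b)))
      (inv_mem (h_mem_par (hle a ha) (hle b hb) ((Equiv.injective _).ne hab) (div_ne_zero (h0 a) (h0 b))))

omit hgen [Finite F] in
theorem conj_rest {c : F} (hc : c ≠ 0) : ∀ y ∈ rowRest E i j, E.w i j c * y * (E.w i j c)⁻¹ ∈ par E i := by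
  have hij := ne_ij hj
  refine conj_closure ?_
  rintro _ ⟨b, t, hb, hbj, rfl⟩
  have hbi : b ≠ i := fun e => by rw [e] at hb; omega
  rw [(E.mon_w hij hc).2 i b hbi.symm, Equiv.swap_apply_left, Equiv.swap_apply_of_ne_of_ne hbi hbj]
  exact x_mem_par (by omega) hb.le hbj.symm hbi _

omit hgen [Finite F] in
theorem row_split : ∀ v ∈ rowGp E i, ∃ v' ∈ rowRest E i j, ∃ t : F, v = v' * E.x i j t := by
  have hij := ne_ij hj
  have hcomm : ∀ t, ∀ y ∈ rowRest E i j, Commute (E.x i j t) y := by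
    intro t y hy
    induction hy using Subgroup.closure_induction with
    | mem y hy => obtain ⟨b, u, hb, -, rfl⟩ := hy; exact rowGp_comm (by omega) hb t u
    | one => exact Commute.one_right _
    | mul a b _ _ ha hb => exact ha.mul_right hb
    | inv a _ ha => exact ha.inv_right
  intro v hv
  induction hv using Subgroup.closure_induction with
  | one => exact ⟨1, one_mem _, 0, by rw [E.x_zero hij, one_mul]⟩
  | mem y hy =>
    obtain ⟨b, t, hb, rfl⟩ := hy
    by_cases hbj : b = j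
    · subst hbj; exact ⟨1, one_mem _, t, (one_mul _).symm⟩
    · exact ⟨_, Subgroup.subset_closure ⟨b, t, hb, hbj, rfl⟩, 0, by rw [E.x_zero hij, mul_one]⟩
  | mul a b _ _ ha hb =>
    obtain ⟨v, hv, t, rfl⟩ := ha
    obtain ⟨v', hv', t', rfl⟩ := hb
    refine ⟨v * v', mul_mem hv hv', t + t', ?_⟩
    rw [← E.add i j hij, mul_assoc v, ← mul_assoc (E.x i j t), (hcomm t v' hv').eq]
    group
  | inv a _ ha =>
    obtain ⟨v, hv, t, rfl⟩ := ha
    exact ⟨v⁻¹, inv_mem hv, -t, by rw [_root_.mul_inv_rev, ← E.x_neg hij, ((hcomm (-t) v hv).inv_right).eq]⟩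

omit hj in
/-- the two double cosets -/
def InS (E : Elem (Fin n) F G) (i j : Fin n) (g : G) : Prop :=
  g ∈ par E i ∨ ∃ p ∈ par E i, ∃ q ∈ par E i, g = p * E.w i j 1 * q

omit hj hgen [Finite F] in
theorem inS_mul {p g q : G} (hp : p ∈ par E i) (hg : InS E i j g) (hq : q ∈ par E i) : InS E i j (p * g * q) := by
  rcases hg with hg | ⟨a, ha, b, hb, rfl⟩
  · exact Or.inl (mul_mem (mul_mem hp hg) hq)
  · exact Or.inr ⟨p * a, mul_mem hp ha, b * q, mul_mem hb hq, by group⟩

theorem w_sq_mem : E.w i j 1 * E.w i j 1 ∈ par E i := by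
  have hij := ne_ij hj
  have h1 : E.h i j (-1) ∈ par E i := h_mem_par le_rfl (by omega) hij (by norm_num)
  rw [show E.w i j 1 * E.w i j 1 = (E.h i j (-1))⁻¹ by
    rw [Elem.h, E.w_neg hij]; simp only [_root_.mul_inv_rev, inv_inv]]
  exact inv_mem h1

theorem w_x_w (t : F) : InS E i j (E.w i j 1 * E.x i j t * E.w i j 1) := by
  have hij := ne_ij hj
  have e : E.w i j 1 * E.x i j t * E.w i j 1 = E.x j i (-t) * (E.w i j 1 * E.w i j 1) := by
    rw [← mul_assoc, show E.x j i (-t) = E.w i j 1 * E.x i j t * (E.w i j 1)⁻¹ by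
      rw [E.w_ij hij one_ne_zero, mul_one, div_one]]
    group
  rw [e]
  rcases eq_or_ne t 0 with rfl | ht
  · rw [neg_zero, E.x_zero hij.symm, one_mul]
    exact Or.inl (w_sq_mem hgen hj)
  · obtain ⟨c, hc⟩ : ∃ c, c = t⁻¹ := ⟨_, rfl⟩
    have hc0 : c ≠ 0 := hc ▸ inv_ne_zero ht
    have e2 : E.x j i (-t) = E.x i j (-c) * E.h i j c * E.w i j 1 * E.x i j (-c) := by
      rw [E.x_neg hij, Elem.h, E.w_neg hij 1,
        show E.w i j c = E.x i j c * E.x j i (-t) * E.x i j c by rw [Elem.w, hc, inv_inv]]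
      group
    rw [e2]
    exact Or.inr ⟨_, mul_mem (x_mem_par le_rfl (by omega) hij hij.symm (-c)) (h_mem_par le_rfl (by omega) hij hc0), _,
      mul_mem (x_mem_par le_rfl (by omega) hij hij.symm (-c)) (w_sq_mem hgen hj), by group⟩

theorem w_par_w (hsplit : ∀ g ∈ blk E j.1, g ∈ par E j ∨ ∃ m : Fin n, m.1 = j.1 + 1 ∧
      ∃ p ∈ par E j, ∃ q ∈ par E j, g = p * E.w j m 1 * q) :
    ∀ p ∈ par E i, InS E i j (E.w i j 1 * p * E.w i j 1) := by
  have hij := ne_ij hj
  intro p hp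
  obtain ⟨v, hv, β, hβ, c, hc, rfl⟩ := par_decomp hgen hj p hp
  obtain ⟨v', hv', t, rfl⟩ := row_split hj v hv
  obtain ⟨W, hW⟩ : ∃ W, W = E.w i j 1 := ⟨_, rfl⟩
  have hWinv : W⁻¹ = E.w i j (-1) := by rw [hW, E.w_neg hij]
  have cinv : ∀ y ∈ par E j, W⁻¹ * y * W ∈ par E i := fun y hy => by
    have := conj_par hgen hj (c := (-1 : F)) (by norm_num) y hy
    rwa [← hWinv, inv_inv] at this
  have cfwd : ∀ y ∈ par E j, W * y * W⁻¹ ∈ par E i := fun y hy => hW ▸ conj_par hgen hj one_ne_zero y hy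
  have crest : ∀ y ∈ rowRest E i j, W * y * W⁻¹ ∈ par E i := fun y hy => hW ▸ conj_rest hj one_ne_zero y hy
  have hh : W⁻¹ * E.h i j c * W ∈ par E i := by
    obtain ⟨h0, -⟩ := E.mon_w hij (c := (-1 : F)) (by norm_num)
    have := conj_h (E.mon_w hij (c := (-1 : F)) (by norm_num)) hij c
    rw [← hWinv, inv_inv, Equiv.swap_apply_left, Equiv.swap_apply_right] at this
    rw [this]
    exact mul_mem (h_mem_par (by omega) le_rfl hij.symm (div_ne_zero (mul_ne_zero (h0 i) hc) (h0 j)))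
      (inv_mem (h_mem_par (by omega) le_rfl hij.symm (div_ne_zero (h0 i) (h0 j))))
  rw [← hW]
  suffices hS : InS E i j (W * (v' * E.x i j t) * β * W) by
    have := inS_mul (one_mem (par E i)) hS hh
    rw [one_mul] at this
    convert this using 1
    group
  have hxw := w_x_w hgen hj (E := E)
  rw [← hj] at hβ
  rcases hsplit β hβ with hβ' | ⟨m, hm, p1, hp1, p2, hp2, rfl⟩
  · have := inS_mul (crest v' hv') (hW ▸ hxw t : InS E i j (W * E.x i j t * W)) (cinv β hβ')
    convert this using 1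
    group
  · have hjm : j ≠ m := fun e => by rw [e] at hm; omega
    have him : i ≠ m := fun e => by rw [e] at hj; omega
    obtain ⟨W', hW'⟩ : ∃ W', W' = E.w j m 1 := ⟨_, rfl⟩
    have hp1' : p1 ∈ blk E (i.1 + 1) := hj ▸ par_le_blk j hp1
    obtain ⟨v'', hv'', t', ht'⟩ := row_split hj _
      ((blk_norms_row p1 hp1') _ (Subgroup.subset_closure ⟨j, t, by omega, rfl⟩ : E.x i j t ∈ rowGp E i)).2
    have hW'inv : W'⁻¹ = E.w j m (-1) := by rw [hW', E.w_neg hjm]
    obtain ⟨s, hs⟩ : ∃ s, W'⁻¹ * E.x i j t' * W' = E.x i m s := by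
      obtain ⟨-, h⟩ := E.mon_w hjm (c := (-1 : F)) (by norm_num)
      have := h i j hij t'
      rw [← hW'inv, inv_inv, Equiv.swap_apply_left, Equiv.swap_apply_of_ne_of_ne hij him] at this
      exact ⟨_, this⟩
    obtain ⟨e, he⟩ : ∃ e, W'⁻¹ * W * W' = E.w i m e := by
      have := (E.mon_w hjm (c := (-1 : F)) (by norm_num)).conj_w E hij 1
      rw [← hW'inv, inv_inv, ← hW, Equiv.swap_apply_left, Equiv.swap_apply_of_ne_of_ne hij him] at this
      exact ⟨_, this⟩
    obtain ⟨e', he'⟩ : ∃ e', W⁻¹ * E.w i m e * W = E.w j m e' := by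
      have := (E.mon_w hij (c := (-1 : F)) (by norm_num)).conj_w E him e
      rw [← hWinv, inv_inv, Equiv.swap_apply_left,
        Equiv.swap_apply_of_ne_of_ne him.symm hjm.symm] at this
      exact ⟨_, this⟩
    have hxim : E.x i m s ∈ rowRest E i j := Subgroup.subset_closure ⟨m, s, by omega, hjm.symm, rfl⟩
    have hxim' : W⁻¹ * E.x i m s * W ∈ par E i := by
      have := conj_rest hj (c := (-1 : F)) (by norm_num) _ hxim
      rwa [← hWinv, inv_inv] at this
    have hmid : InS E i j (W * E.x i j t' * W' * W) := by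
      refine Or.inr ⟨W', hW' ▸ w_mem_par (by omega) (by omega) hjm hij.symm him.symm _,
        E.w j m e' * (W⁻¹ * E.x i m s * W),
        mul_mem (w_mem_par (by omega) (by omega) hjm hij.symm him.symm _) hxim', ?_⟩
      rw [← he', ← he, ← hs, ← hW]
      group
    have := inS_mul (mul_mem (mul_mem (crest v' hv') (cfwd p1 hp1)) (crest v'' hv'')) hmid (cinv p2 hp2)
    rw [← hW']
    convert this using 1
    have e1 : E.x i j t * p1 = p1 * (v'' * E.x i j t') := by rw [← ht']; group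
    rw [show W * (v' * E.x i j t) * (p1 * W' * p2) * W = W * v' * (E.x i j t * p1) * W' * p2 * W by group, e1]
    group

theorem blk_split (hsplit : ∀ g ∈ blk E j.1, g ∈ par E j ∨ ∃ m : Fin n, m.1 = j.1 + 1 ∧
      ∃ p ∈ par E j, ∃ q ∈ par E j, g = p * E.w j m 1 * q) : ∀ g ∈ blk E i.1, InS E i j g := by
  have hij := ne_ij hj
  obtain ⟨W, hW⟩ : ∃ W, W = E.w i j 1 := ⟨_, rfl⟩
  have hwpw := w_par_w hgen hj hsplit
  have hwS : ∀ g, InS E i j g → InS E i j (W * g) := by
    rintro g (hg | ⟨p, hp, q, hq, rfl⟩)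
    · exact Or.inr ⟨1, one_mem _, g, hg, by rw [one_mul, hW]⟩
    · have := inS_mul (one_mem (par E i)) (hwpw p hp) hq
      rw [one_mul] at this
      convert this using 1
      rw [hW]; group
  have hpS : ∀ p ∈ par E i, ∀ g, InS E i j g → InS E i j (p * g) := fun p hp g hg => by
    have := inS_mul hp hg (one_mem _)
    rwa [mul_one] at this
  have hclos : ∀ g ∈ Subgroup.closure ((par E i : Set G) ∪ {W}), InS E i j g := by
    intro g hg
    induction hg using Subgroup.closure_induction_left with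
    | one => exact Or.inl (one_mem _)
    | mul_left x hx y _ hy =>
      rcases hx with hx | hx
      · exact hpS x hx y hy
      · rw [Set.mem_singleton_iff.1 hx]; exact hwS y hy
    | inv_mul_cancel x hx y _ hy =>
      rcases hx with hx | hx
      · exact hpS _ (inv_mem hx) y hy
      · rw [Set.mem_singleton_iff.1 hx, show W⁻¹ * y = E.h i j (-1) * (W * y) by
          rw [hW, Elem.h, E.w_neg hij]; group]
        exact hpS _ (h_mem_par le_rfl (by omega) hij (by norm_num)) _ (hwS y hy)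
  intro g hg
  refine hclos g ((Subgroup.closure_le _).2 ?_ hg)
  rintro _ ⟨a, b, t, ha, hb, hab, rfl⟩
  have hsub : ∀ y ∈ par E i, y ∈ Subgroup.closure ((par E i : Set G) ∪ {W}) := fun y hy =>
    Subgroup.subset_closure (Or.inl hy)
  have hWm : W ∈ Subgroup.closure ((par E i : Set G) ∪ {W}) := Subgroup.subset_closure (Or.inr rfl)
  rw [SetLike.mem_coe]
  by_cases hbi : b = i
  swap
  · exact hsub _ (x_mem_par ha hb hab hbi t)
  subst hbi
  by_cases haj : a = j
  · subst haj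
    rw [show E.x a b t = W * E.x b a (-t) * W⁻¹ by
      rw [hW, E.w_ij hij one_ne_zero, mul_one, div_one, neg_neg]]
    exact mul_mem (mul_mem hWm (hsub _ (x_mem_par le_rfl (by omega) hij hij.symm _))) (inv_mem hWm)
  · rw [show E.x a b t = W * E.x a j t * W⁻¹ by rw [hW, E.w_kj hij one_ne_zero hab haj, div_one]]
    exact mul_mem (mul_mem hWm (hsub _ (x_mem_par ha (by omega) haj hij.symm _))) (inv_mem hWm)

end Step

/-! ### matrices -/

variable (θ : G →* SpecialLinearGroup (Fin n) F)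
  (hθ : ∀ a b, a ≠ b → ∀ t, (θ (E.x a b t) : Matrix (Fin n) (Fin n) F) = Matrix.transvection a b t)
include hθ

omit hθ in
theorem θ_mul (a b : G) : (θ (a * b) : Matrix (Fin n) (Fin n) F) =
    (θ a : Matrix (Fin n) (Fin n) F) * (θ b : Matrix (Fin n) (Fin n) F) := by rw [map_mul]; rfl

omit hθ in
theorem θ_one : (θ 1 : Matrix (Fin n) (Fin n) F) = 1 := by rw [map_one]; rfl

omit hθ in
theorem θ_eq_one {a : G} (h : θ a = 1) : (θ a : Matrix (Fin n) (Fin n) F) = 1 := by rw [h]; rfl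

omit hθ in
theorem transvection_apply (a b r c : Fin n) (t : F) :
    Matrix.transvection a b t r c = (1 : Matrix (Fin n) (Fin n) F) r c + if r = a ∧ c = b then t else 0 := by
  rw [Matrix.transvection, Matrix.add_apply]
  congr 1
  simp only [Matrix.single, Matrix.of_apply, eq_comm]

theorem θ_blk {k : ℕ} : ∀ g ∈ blk E k, ∀ r c : Fin n, r.1 < k ∨ c.1 < k →
    (θ g : Matrix (Fin n) (Fin n) F) r c = (1 : Matrix (Fin n) (Fin n) F) r c := by
  intro g hg
  induction hg using Subgroup.closure_induction with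
  | mem g hg =>
    obtain ⟨a, b, t, ha, hb, hab, rfl⟩ := hg
    intro r c h
    rw [hθ a b hab, transvection_apply, if_neg, add_zero]
    rintro ⟨rfl, rfl⟩; omega
  | one => intro r c _; rw [θ_one θ]
  | mul a b _ _ ha hb =>
    intro r c h
    rw [θ_mul θ, Matrix.mul_apply]
    rcases h with h | h
    · rw [Finset.sum_eq_single r, ha r r (Or.inl h), hb r c (Or.inl h), Matrix.one_apply_eq, one_mul]
      · intro l _ hl; rw [ha r l (Or.inl h), Matrix.one_apply_ne (Ne.symm hl), zero_mul]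
      · simp
    · rw [Finset.sum_eq_single c, ha r c (Or.inr h), hb c c (Or.inr h), Matrix.one_apply_eq, mul_one]
      · intro l _ hl; rw [hb l c (Or.inr h), Matrix.one_apply_ne hl, mul_zero]
      · simp
  | inv a _ ha =>
    intro r c h
    rcases h with h | h
    · have e : (θ a : Matrix (Fin n) (Fin n) F) * (θ a⁻¹ : Matrix (Fin n) (Fin n) F) = 1 := by
        rw [← θ_mul θ, mul_inv_cancel, θ_one θ]
      have := congrFun (congrFun e r) c
      rw [Matrix.mul_apply, Finset.sum_eq_single r, ha r r (Or.inl h), Matrix.one_apply_eq, one_mul] at this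
      · exact this
      · intro l _ hl; rw [ha r l (Or.inl h), Matrix.one_apply_ne (Ne.symm hl), zero_mul]
      · simp
    · have e : (θ a⁻¹ : Matrix (Fin n) (Fin n) F) * (θ a : Matrix (Fin n) (Fin n) F) = 1 := by
        rw [← θ_mul θ, inv_mul_cancel, θ_one θ]
      have := congrFun (congrFun e r) c
      rw [Matrix.mul_apply, Finset.sum_eq_single c, ha c c (Or.inr h), Matrix.one_apply_eq, mul_one] at this
      · exact this
      · intro l _ hl; rw [ha l c (Or.inr h), Matrix.one_apply_ne hl, mul_zero]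
      · simp

theorem θ_w {a b : Fin n} (hab : a ≠ b) (c : F) (r : Fin n) (hc : c ≠ 0) :
    (θ (E.w a b c) : Matrix (Fin n) (Fin n) F) r a = (if r = b then -c⁻¹ else 0) ∧
      (θ (E.w a b c) : Matrix (Fin n) (Fin n) F) r b = (if r = a then c else 0) := by
  rw [Elem.w, θ_mul θ, θ_mul θ, hθ a b hab,
    hθ b a hab.symm, Matrix.mul_assoc]
  by_cases hra : r = a
  · subst hra
    simp [hab, transvection_apply, hc, Matrix.one_apply, hab.symm, mul_inv_cancel₀ hc]
  by_cases hrb : r = b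
  · subst hrb
    simp [hab, hab.symm, transvection_apply, hc]
  simp [hra, hrb, transvection_apply, Matrix.one_apply_ne hra, Matrix.one_apply_ne hrb]

theorem θ_h_col {a b : Fin n} (hab : a ≠ b) {c : F} (hc : c ≠ 0) (r : Fin n) :
    (θ (E.h a b c) : Matrix (Fin n) (Fin n) F) r a = if r = a then c else 0 := by
  rw [Elem.h, θ_mul θ, Matrix.mul_apply, Finset.sum_eq_single b]
  · rw [(θ_w θ hθ hab c r hc).2, (θ_w θ hθ hab (-1) b (by norm_num)).1, if_pos rfl]
    simp
  · intro l _ hl; rw [(θ_w θ hθ hab (-1) l (by norm_num)).1, if_neg hl, mul_zero]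
  · simp

theorem row_coords {i : Fin n} : ∀ v ∈ rowGp E i, ∃ f : Fin n → F, (∀ b : Fin n, b.1 ≤ i.1 → f b = 0) ∧
    (∀ r c, (θ v : Matrix (Fin n) (Fin n) F) r c =
      (1 : Matrix (Fin n) (Fin n) F) r c + if r = i then f c else 0) ∧
    (f = 0 → v = 1) := by
  classical
  let ψ : Fin n → Multiplicative F →* G := fun b =>
    { toFun := fun t => if i.1 < b.1 then E.x i b t.toAdd else 1
      map_one' := by
        split_ifs with h
        · exact E.x_zero fun e => by rw [e] at h; omega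
        · rfl
      map_mul' := fun t u => by
        split_ifs with h
        · exact (E.add i b (fun e => by rw [e] at h; omega) _ _).symm
        · exact (mul_one _).symm }
  have hψ : Pairwise fun b l => ∀ t u, Commute (ψ b t) (ψ l u) := by
    intro b l _ t u
    show Commute (if i.1 < b.1 then E.x i b t.toAdd else 1) (if i.1 < l.1 then E.x i l u.toAdd else 1)
    split_ifs with h1 h2
    · exact rowGp_comm h1 h2 _ _
    all_goals first | exact Commute.one_left _ | exact Commute.one_right _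
  let Φ := MonoidHom.noncommPiCoprod ψ hψ
  suffices key : ∀ v ∈ rowGp E i, ∃ f : Fin n → Multiplicative F, (∀ b : Fin n, b.1 ≤ i.1 → f b = 1) ∧ v = Φ f ∧
      ∀ r c, (θ v : Matrix (Fin n) (Fin n) F) r c =
        (1 : Matrix (Fin n) (Fin n) F) r c + if r = i then (f c).toAdd else 0 by
    intro v hv
    obtain ⟨f, h1, h2, h3⟩ := key v hv
    refine ⟨fun b => (f b).toAdd, fun b hb => by simp [h1 b hb], h3, fun h => ?_⟩
    have : f = 1 := funext fun b => Multiplicative.toAdd.injective (congrFun h b)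
    rw [h2, this, map_one]
  intro v hv
  induction hv using Subgroup.closure_induction with
  | one => exact ⟨1, fun _ _ => rfl, (map_one Φ).symm, fun r c => by simp⟩
  | mem y hy =>
    obtain ⟨b, t, hb, rfl⟩ := hy
    have hib : i ≠ b := fun e => by rw [e] at hb; omega
    refine ⟨Pi.mulSingle b (Multiplicative.ofAdd t), fun l hl => ?_, ?_, fun r c => ?_⟩
    · rw [Pi.mulSingle_eq_of_ne]; intro e; rw [e] at hl; omega
    · show _ = MonoidHom.noncommPiCoprod ψ hψ _
      rw [MonoidHom.noncommPiCoprod_mulSingle]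
      exact (if_pos hb).symm
    · rw [hθ i b hib, transvection_apply]
      congr 1
      by_cases hc : c = b
      · subst hc; by_cases hr : r = i <;> simp [hr]
      · simp [hc]
  | mul a b _ _ ha hb =>
    obtain ⟨f, f0, fe, fm⟩ := ha
    obtain ⟨g, g0, ge, gm⟩ := hb
    refine ⟨f * g, fun l hl => by simp [f0 l hl, g0 l hl], by rw [map_mul, fe, ge], fun r c => ?_⟩
    rw [θ_mul θ, Matrix.mul_apply]
    simp only [fm, gm, add_mul, mul_add, Finset.sum_add_distrib]
    simp [Matrix.one_apply, f0 i le_rfl, Pi.mul_apply]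
    split_ifs <;> ring
  | inv a _ ha =>
    obtain ⟨f, f0, fe, fm⟩ := ha
    refine ⟨f⁻¹, fun l hl => by simp [f0 l hl], by rw [map_inv, fe], fun r c => ?_⟩
    obtain ⟨M, hM⟩ : ∃ M : Matrix (Fin n) (Fin n) F,
        M = Matrix.of fun r c => (1 : Matrix (Fin n) (Fin n) F) r c + if r = i then (f⁻¹ c).toAdd else 0 := ⟨_, rfl⟩
    have e : (θ a : Matrix (Fin n) (Fin n) F) * M = 1 := by
      ext r c
      rw [Matrix.mul_apply, hM]
      simp only [fm, Matrix.of_apply, add_mul, mul_add, Finset.sum_add_distrib]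
      simp [Matrix.one_apply, f0 i le_rfl]
    have e2 : (θ a⁻¹ : Matrix (Fin n) (Fin n) F) * (θ a : Matrix (Fin n) (Fin n) F) = 1 := by
      rw [← θ_mul θ, inv_mul_cancel, θ_one θ]
    have : (θ a⁻¹ : Matrix (Fin n) (Fin n) F) = M := by
      rw [← mul_one (θ a⁻¹ : Matrix (Fin n) (Fin n) F), ← e, ← Matrix.mul_assoc, e2, one_mul]
    rw [this, hM, Matrix.of_apply]

/-- faithfulness and the double coset decomposition, by descending induction -/
theorem injective_and_split [Finite F] (hgen : E.Gen) : ∀ d k : ℕ, k + d + 1 = n →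
    (∀ g ∈ blk E k, θ g = 1 → g = 1) ∧ ∀ (i : Fin n), i.1 = k → ∀ g ∈ blk E k, g ∈ par E i ∨
      ∃ m : Fin n, m.1 = k + 1 ∧ ∃ p ∈ par E i, ∃ q ∈ par E i, g = p * E.w i m 1 * q := by
  intro d
  induction d with
  | zero =>
    intro k hk
    have hbot : ∀ g ∈ blk E k, g = 1 := fun g hg => Subgroup.mem_bot.1 ((Subgroup.closure_le ⊥).2 (by
      rintro _ ⟨a, b, t, ha, hb, hab, rfl⟩
      exact absurd (Fin.ext (show a.1 = b.1 by omega)) hab) hg)
    exact ⟨fun g hg _ => hbot g hg, fun i _ g hg => Or.inl (hbot g hg ▸ one_mem _)⟩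
  | succ d ih =>
    intro k hk
    obtain ⟨i, hi⟩ : ∃ i : Fin n, i.1 = k := ⟨⟨k, by omega⟩, rfl⟩
    obtain ⟨j, hj⟩ : ∃ j : Fin n, j.1 = i.1 + 1 := ⟨⟨k + 1, by omega⟩, by simp [hi]⟩
    obtain ⟨ihinj, ihsplit⟩ := ih (k + 1) (by omega)
    have hij := ne_ij hj
    have hjk : j.1 = k + 1 := by omega
    have hS := blk_split hgen hj (fun g hg => by
      rw [hjk] at hg
      rcases ihsplit j hjk g hg with h | ⟨m, hm, r⟩
      · exact Or.inl h
      · exact Or.inr ⟨m, by omega, r⟩)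
    rw [hi] at hS
    refine ⟨fun g hg hθg => ?_, fun i' hi' g hg => ?_⟩
    swap
    · obtain rfl : i' = i := Fin.ext (hi'.trans hi.symm)
      rcases hS g hg with h | h
      · exact Or.inl h
      · exact Or.inr ⟨j, hjk, h⟩
    have hcol : ∀ p ∈ par E i, ∃ c : F, c ≠ 0 ∧
        (∀ r, (θ p : Matrix (Fin n) (Fin n) F) r i = if r = i then c else 0) ∧
        (θ p = 1 → p = 1) := by
      intro p hp
      obtain ⟨v, hv, β, hβ, c, hc, rfl⟩ := par_decomp hgen hj p hp
      obtain ⟨f, f0, fm, f1⟩ := row_coords θ hθ v hv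
      have hβcol : ∀ r, (θ (v * β) : Matrix (Fin n) (Fin n) F) r i = (1 : Matrix (Fin n) (Fin n) F) r i := by
        intro r
        rw [θ_mul θ, Matrix.mul_apply, Finset.sum_eq_single i, fm,
          θ_blk θ hθ β hβ i i (Or.inr (by omega)), Matrix.one_apply_eq, mul_one, f0 i le_rfl]
        · simp
        · intro l _ hl
          rw [θ_blk θ hθ β hβ l i (Or.inr (by omega)), Matrix.one_apply_ne hl, mul_zero]
        · simp
      have hpc : ∀ r, (θ (v * β * E.h i j c) : Matrix (Fin n) (Fin n) F) r i = if r = i then c else 0 := by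
        intro r
        rw [θ_mul θ, Matrix.mul_apply, Finset.sum_eq_single i,
          θ_h_col θ hθ hij hc, if_pos rfl, hβcol]
        · by_cases hr : r = i <;> simp [hr, Matrix.one_apply]
        · intro l _ hl
          rw [θ_h_col θ hθ hij hc, if_neg hl, mul_zero]
        · simp
      refine ⟨c, hc, hpc, fun h1 => ?_⟩
      have hc1 : c = 1 := by
        have := hpc i
        rw [θ_eq_one θ h1, Matrix.one_apply_eq, if_pos rfl] at this
        exact this.symm
      rw [hc1, E.h_one hij, mul_one] at h1 ⊢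
      have hf : f = 0 := by
        funext l
        have h2 : (θ (v * β) : Matrix (Fin n) (Fin n) F) i l = (1 : Matrix (Fin n) (Fin n) F) i l := by
          rw [θ_eq_one θ h1]
        have h3 : θ v * θ β = 1 := by rw [← map_mul]; exact h1
        have h4 : θ v = (θ β)⁻¹ := eq_inv_of_mul_eq_one_left h3
        have h5 := fm i l
        rw [h4, ← map_inv, θ_blk θ hθ _ (inv_mem hβ) i l (Or.inl (by omega)), if_pos rfl] at h5
        simpa using h5
      rw [f1 hf, one_mul] at h1 ⊢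
      exact ihinj β (hi ▸ hβ) h1
    rcases hS g hg with h | ⟨p, hp, q, hq, rfl⟩
    · obtain ⟨c, -, -, hi1⟩ := hcol g h
      exact hi1 hθg
    · exfalso
      obtain ⟨c, -, hpc, -⟩ := hcol _ (mul_mem (inv_mem hp) (inv_mem hq))
      have he : θ (E.w i j 1) = θ (p⁻¹ * q⁻¹) := by
        rw [map_mul, map_inv, map_inv]
        rw [map_mul, map_mul] at hθg
        calc θ (E.w i j 1) = (θ p)⁻¹ * (θ p * θ (E.w i j 1) * θ q) * (θ q)⁻¹ := by group
          _ = _ := by rw [hθg, mul_one]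
      have := hpc j
      rw [← he, (θ_w θ hθ hij 1 j one_ne_zero).1, if_pos rfl, if_neg hij.symm] at this
      simp at this

theorem injective_of_gen [Finite F] (hgen : E.Gen) (hn : 1 ≤ n) : Function.Injective θ := by
  rw [injective_iff_map_eq_one]
  intro g hg
  refine (injective_and_split θ hθ hgen (n - 1) 0 (by omega)).1 g ?_ hg
  refine hgen.ge.trans ((Subgroup.closure_le _).2 ?_) (Subgroup.mem_top g)
  rintro _ ⟨a, b, t, hab, rfl⟩
  exact x_mem_blk (Nat.zero_le _) (Nat.zero_le _) hab t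

end CfsgLib.Known.SLn
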