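import Mathlib

/-!
# Groups with elementary generators: monomial elements and symbols
-/

set_option autoImplicit false

namespace CfsgLib.Known.SLn

open scoped commutatorElement

/-- a family of elementary root elements -/
structure Elem (ι F G : Type*) [Field F] [Group G] where
  x : ι → ι → F → G
  add : ∀ i j, i ≠ j → ∀ t u, x i j t * x i j u = x i j (t + u)
  comm : ∀ i j l, i ≠ j → j ≠ l → i ≠ l → ∀ t u, ⁅x i j t, x j l u⁆ = x i l (t * u)
  triv : ∀ i j k l, i ≠ j → k ≠ l → j ≠ k → i ≠ l → ∀ t u, Commute (x i j t) (x k l u)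
  third : ∀ i j : ι, ∃ k, k ≠ i ∧ k ≠ j

variable {ι F G : Type*} [DecidableEq ι] [Field F] [Group G] (E : Elem ι F G)

namespace Elem

/-- all root elements generate -/
def Gen : Prop := Subgroup.closure {g | ∃ i j t, i ≠ j ∧ g = E.x i j t} = ⊤

/-- monomial elements -/
def w (i j : ι) (c : F) : G := E.x i j c * E.x j i (-c⁻¹) * E.x i j c

/-- diagonal elements -/
def h (i j : ι) (c : F) : G := E.w i j c * E.w i j (-1)

theorem x_zero {i j : ι} (hij : i ≠ j) : E.x i j 0 = 1 := by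
  have := E.add i j hij 0 0
  rw [add_zero] at this
  exact mul_eq_left.1 this

theorem x_neg {i j : ι} (hij : i ≠ j) (t : F) : E.x i j (-t) = (E.x i j t)⁻¹ := by
  rw [eq_inv_iff_mul_eq_one, E.add i j hij, neg_add_cancel, E.x_zero hij]

theorem x_fix {i j k l : ι} (hij : i ≠ j) (hkl : k ≠ l) (h1 : j ≠ k) (h2 : i ≠ l) (t u : F) :
    E.x i j t * E.x k l u * (E.x i j t)⁻¹ = E.x k l u := by
  rw [(E.triv i j k l hij hkl h1 h2 t u).eq, mul_inv_cancel_right]

theorem x_left {i j k : ι} (hij : i ≠ j) (hjk : j ≠ k) (hik : i ≠ k) (c t : F) :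
    E.x i j c * E.x j k t * (E.x i j c)⁻¹ = E.x i k (c * t) * E.x j k t := by
  rw [← E.comm i j k hij hjk hik, commutatorElement_def, inv_mul_cancel_right]

theorem x_right {i j k : ι} (hij : i ≠ j) (hki : k ≠ i) (hkj : k ≠ j) (c t : F) :
    E.x i j c * E.x k i t * (E.x i j c)⁻¹ = E.x k j (-(t * c)) * E.x k i t := by
  rw [E.x_neg hkj, ← E.comm k i j hki hij hkj, commutatorElement_inv, commutatorElement_def, inv_mul_cancel_right]

theorem conj_mul_conj (g a b : G) : g * (a * b) * g⁻¹ = g * a * g⁻¹ * (g * b * g⁻¹) := by group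

theorem inv_conj_commute {a b : G} (h : Commute b a) : a⁻¹ * b * a = b := by
  rw [mul_assoc, h.eq, inv_mul_cancel_left]

theorem w_conj {i j : ι} (c : F) (y : G) : E.w i j c * y * (E.w i j c)⁻¹ =
    E.x i j c * (E.x j i (-c⁻¹) * (E.x i j c * y * (E.x i j c)⁻¹) * (E.x j i (-c⁻¹))⁻¹) * (E.x i j c)⁻¹ := by
  unfold w; group

variable {i j : ι} (hij : i ≠ j) {c : F} (hc : c ≠ 0)
include hij hc

theorem w_jk {k : ι} (hki : k ≠ i) (hkj : k ≠ j) (t : F) :
    E.w i j c * E.x j k t * (E.w i j c)⁻¹ = E.x i k (c * t) := by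
  rw [E.w_conj, E.x_left hij hkj.symm hki.symm, conj_mul_conj (E.x j i (-c⁻¹)), E.x_left hij.symm hki.symm hkj.symm,
    E.x_fix hij.symm hkj.symm hij hkj.symm, show -c⁻¹ * (c * t) = -t by field_simp, E.x_neg hkj.symm,
    inv_conj_commute (E.triv i k j k hki.symm hkj.symm hkj hki.symm (c * t) t),
    E.x_fix hij hki.symm hij.symm hki.symm]

theorem w_ik {k : ι} (hki : k ≠ i) (hkj : k ≠ j) (t : F) :
    E.w i j c * E.x i k t * (E.w i j c)⁻¹ = E.x j k (-(t / c)) := by
  rw [E.w_conj, E.x_fix hij hki.symm hij.symm hki.symm, E.x_left hij.symm hki.symm hkj.symm, conj_mul_conj,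
    E.x_left hij hkj.symm hki.symm, E.x_fix hij hki.symm hij.symm hki.symm,
    show c * (-c⁻¹ * t) = -t by field_simp, E.x_neg hki.symm,
    inv_conj_commute (E.triv j k i k hkj.symm hki.symm hki hkj.symm (-c⁻¹ * t) t)]
  congr 1; ring

theorem w_ki {k : ι} (hki : k ≠ i) (hkj : k ≠ j) (t : F) :
    E.w i j c * E.x k i t * (E.w i j c)⁻¹ = E.x k j (-(c * t)) := by
  rw [E.w_conj, E.x_right hij hki hkj, conj_mul_conj (E.x j i (-c⁻¹)), E.x_right hij.symm hkj hki,
    E.x_fix hij.symm hki hki.symm hij.symm, show -(-(t * c) * -c⁻¹) = -t by field_simp, E.x_neg hki,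
    inv_conj_commute (E.triv k j k i hkj hki hkj.symm hki (-(t * c)) t),
    E.x_fix hij hkj hkj.symm hij]
  congr 1; ring

theorem w_kj {k : ι} (hki : k ≠ i) (hkj : k ≠ j) (t : F) :
    E.w i j c * E.x k j t * (E.w i j c)⁻¹ = E.x k i (t / c) := by
  rw [E.w_conj, E.x_fix hij hkj hkj.symm hij, E.x_right hij.symm hkj hki, conj_mul_conj, E.x_right hij hki hkj,
    E.x_fix hij hkj hkj.symm hij, show -(-(t * -c⁻¹) * c) = -t by field_simp, E.x_neg hkj,
    inv_conj_commute (E.triv k i k j hki hkj hki.symm hkj (-(t * -c⁻¹)) t)]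
  congr 1; ring

theorem w_ij (t : F) : E.w i j c * E.x i j t * (E.w i j c)⁻¹ = E.x j i (-(t / (c * c))) := by
  obtain ⟨k, hki, hkj⟩ := E.third i j
  rw [show E.x i j t = ⁅E.x i k t, E.x k j 1⁆ by rw [E.comm i k j hki.symm hkj hij, mul_one],
    show E.w i j c * ⁅E.x i k t, E.x k j 1⁆ * (E.w i j c)⁻¹ =
      ⁅E.w i j c * E.x i k t * (E.w i j c)⁻¹, E.w i j c * E.x k j 1 * (E.w i j c)⁻¹⁆ by
      simp only [commutatorElement_def]; group,
    E.w_ik hij hc hki hkj, E.w_kj hij hc hki hkj, E.comm j k i hkj.symm hki hij.symm]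
  congr 1; field_simp

theorem w_ji (t : F) : E.w i j c * E.x j i t * (E.w i j c)⁻¹ = E.x i j (-(c * c * t)) := by
  obtain ⟨k, hki, hkj⟩ := E.third i j
  rw [show E.x j i t = ⁅E.x j k t, E.x k i 1⁆ by rw [E.comm j k i hkj.symm hki hij.symm, mul_one],
    show E.w i j c * ⁅E.x j k t, E.x k i 1⁆ * (E.w i j c)⁻¹ =
      ⁅E.w i j c * E.x j k t * (E.w i j c)⁻¹, E.w i j c * E.x k i 1 * (E.w i j c)⁻¹⁆ by
      simp only [commutatorElement_def]; group,
    E.w_jk hij hc hki hkj, E.w_ki hij hc hki hkj, E.comm i k j hki.symm hkj hij]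
  congr 1; ring

theorem w_kl {k l : ι} (hkl : k ≠ l) (hki : k ≠ i) (hkj : k ≠ j) (hli : l ≠ i) (hlj : l ≠ j) (t : F) :
    E.w i j c * E.x k l t * (E.w i j c)⁻¹ = E.x k l t := by
  rw [E.w_conj, E.x_fix hij hkl hkj.symm hli.symm, E.x_fix hij.symm hkl hki.symm hlj.symm,
    E.x_fix hij hkl hkj.symm hli.symm]

omit hij hc

/-- `g` acts monomially -/
def Mon (g : G) (π : Equiv.Perm ι) (e : ι → F) : Prop :=
  (∀ a, e a ≠ 0) ∧ ∀ a b, a ≠ b → ∀ t, g * E.x a b t * g⁻¹ = E.x (π a) (π b) (e a * t / e b)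

/-- the scaling of `w i j c` -/
def wE (i j : ι) (c : F) : ι → F := fun a => if a = i then -c⁻¹ else if a = j then c else 1

theorem mon_w {i j : ι} (hij : i ≠ j) {c : F} (hc : c ≠ 0) : E.Mon (E.w i j c) (Equiv.swap i j) (wE i j c) := by
  refine ⟨fun a => by unfold wE; split_ifs <;> simp [hc], fun a b hab t => ?_⟩
  have ei : wE i j c i = -c⁻¹ := if_pos rfl
  have ej : wE i j c j = c := by rw [wE, if_neg hij.symm, if_pos rfl]
  have ek : ∀ k, k ≠ i → k ≠ j → wE i j c k = 1 := fun k h1 h2 => by rw [wE, if_neg h1, if_neg h2]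
  by_cases hai : a = i
  · subst hai
    by_cases hbj : b = j
    · subst hbj
      rw [E.w_ij hij hc, Equiv.swap_apply_left, Equiv.swap_apply_right, ei, ej]
      congr 1; field_simp
    · rw [E.w_ik hij hc hab.symm hbj, Equiv.swap_apply_left, Equiv.swap_apply_of_ne_of_ne hab.symm hbj, ei,
        ek b hab.symm hbj]
      congr 1; field_simp
  by_cases haj : a = j
  · subst haj
    by_cases hbi : b = i
    · subst hbi
      rw [E.w_ji hij hc, Equiv.swap_apply_left, Equiv.swap_apply_right, ei, ej]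
      congr 1; field_simp
    · rw [E.w_jk hij hc hbi hab.symm, Equiv.swap_apply_right, Equiv.swap_apply_of_ne_of_ne hbi hab.symm, ej,
        ek b hbi hab.symm, div_one]
  rw [Equiv.swap_apply_of_ne_of_ne hai haj, ek a hai haj, one_mul]
  by_cases hbi : b = i
  · subst hbi
    rw [E.w_ki hij hc hab haj, Equiv.swap_apply_left, ei]
    congr 1; field_simp
  by_cases hbj : b = j
  · subst hbj
    rw [E.w_kj hij hc hai hab, Equiv.swap_apply_right, ej]
  rw [E.w_kl hij hc hab hai haj hbi hbj, Equiv.swap_apply_of_ne_of_ne hbi hbj, ek b hbi hbj, div_one]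

theorem Mon.mul {g g' : G} {π π' : Equiv.Perm ι} {e e' : ι → F} (h1 : E.Mon g π e) (h2 : E.Mon g' π' e') :
    E.Mon (g * g') (π * π') (fun a => e (π' a) * e' a) := by
  refine ⟨fun a => mul_ne_zero (h1.1 _) (h2.1 _), fun a b hab t => ?_⟩
  rw [show g * g' * E.x a b t * (g * g')⁻¹ = g * (g' * E.x a b t * g'⁻¹) * g⁻¹ by group, h2.2 a b hab,
    h1.2 _ _ (π'.injective.ne hab)]
  rw [Equiv.Perm.mul_apply, Equiv.Perm.mul_apply]
  congr 1
  have := h1.1 (π' b)
  have := h2.1 b
  field_simp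

theorem Mon.conj_w {g : G} {π : Equiv.Perm ι} {e : ι → F} (h1 : E.Mon g π e) {i j : ι} (hij : i ≠ j) (c : F) :
    g * E.w i j c * g⁻¹ = E.w (π i) (π j) (e i * c / e j) := by
  unfold w
  rw [conj_mul_conj, conj_mul_conj, h1.2 i j hij, h1.2 j i hij.symm]
  congr 3
  rw [inv_div, mul_comm (e j), neg_mul, neg_div]
  congr 1
  rw [mul_comm (c⁻¹), ← div_eq_mul_inv, div_div, mul_comm c]

theorem w_neg {i j : ι} (hij : i ≠ j) (c : F) : E.w i j (-c) = (E.w i j c)⁻¹ := by
  unfold w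
  rw [E.x_neg hij, inv_neg, E.x_neg hij.symm]
  group

theorem w_rev {i j : ι} (hij : i ≠ j) {c : F} (hc : c ≠ 0) : E.w i j c = E.w j i (-c⁻¹) := by
  have h1 := (E.mon_w hij hc).conj_w E hij c
  rw [mul_inv_cancel_right, Equiv.swap_apply_left, Equiv.swap_apply_right, wE, wE, if_pos rfl, if_neg hij.symm,
    if_pos rfl, neg_mul, inv_mul_cancel₀ hc, neg_div, one_div] at h1
  exact h1

/-- the scaling of `h i j c` -/
def hE (i j : ι) (c : F) : ι → F := fun a => if a = i then c else if a = j then c⁻¹ else 1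

theorem mon_h {i j : ι} (hij : i ≠ j) {c : F} (hc : c ≠ 0) : E.Mon (E.h i j c) 1 (hE i j c) := by
  obtain ⟨h1, h2⟩ := (E.mon_w hij hc).mul E (E.mon_w hij (c := (-1 : F)) (by norm_num))
  refine ⟨fun a => by unfold hE; split_ifs <;> simp [hc], fun a b hab t => ?_⟩
  have he : ∀ a, wE i j c (Equiv.swap i j a) * wE i j (-1 : F) a = hE i j c a := fun a => by
    by_cases hai : a = i
    · subst hai; simp [wE, hE, hij.symm]
    by_cases haj : a = j
    · subst haj; simp [wE, hE, hij.symm]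
    simp [wE, hE, Equiv.swap_apply_of_ne_of_ne hai haj, hai, haj]
  have h3 := h2 a b hab t
  simp only [he, Equiv.swap_mul_self] at h3
  exact h3

theorem center_of_fix (hgen : E.Gen) {g : G} (h1 : ∀ a b, a ≠ b → ∀ t, g * E.x a b t * g⁻¹ = E.x a b t) :
    g ∈ Subgroup.center G := by
  rw [Subgroup.mem_center_iff]
  intro y
  have hy : y ∈ Subgroup.centralizer {g} := by
    refine hgen.ge.trans ((Subgroup.closure_le _).2 ?_) (Subgroup.mem_top y)
    rintro _ ⟨a, b, t, hab, rfl⟩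
    rw [SetLike.mem_coe, Subgroup.mem_centralizer_singleton_iff]
    exact (mul_inv_eq_iff_eq_mul.1 (h1 a b hab t)).symm
  exact Subgroup.mem_centralizer_singleton_iff.1 hy

theorem h_defect (hgen : E.Gen) {i j : ι} (hij : i ≠ j) {a b : F} (ha : a ≠ 0) (hb : b ≠ 0) :
    E.h i j a * E.h i j b * (E.h i j (a * b))⁻¹ ∈ Subgroup.center G := by
  refine E.center_of_fix hgen fun k l hkl t => ?_
  have hab : ∀ k, hE i j a k * hE i j b k = hE i j (a * b) k := fun k => by
    unfold hE; split_ifs <;> first | ring | (rw [mul_inv])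
  obtain ⟨he, h2⟩ := E.mon_h hij (mul_ne_zero ha hb)
  have h1 := ((E.mon_h hij ha).mul E (E.mon_h hij hb)).2 k l hkl (hE i j (a * b) l * t / hE i j (a * b) k)
  have h3 := h2 k l hkl (hE i j (a * b) l * t / hE i j (a * b) k)
  simp only [Equiv.Perm.one_apply, mul_one, hab] at h1 h3
  have e : hE i j (a * b) k * (hE i j (a * b) l * t / hE i j (a * b) k) / hE i j (a * b) l = t := by
    have := he k; have := he l; field_simp
  rw [e] at h1 h3
  have h4 : (E.h i j (a * b))⁻¹ * E.x k l t * E.h i j (a * b) =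
      E.x k l (hE i j (a * b) l * t / hE i j (a * b) k) := by
    conv_lhs => rw [← h3]
    group
  calc E.h i j a * E.h i j b * (E.h i j (a * b))⁻¹ * E.x k l t *
        (E.h i j a * E.h i j b * (E.h i j (a * b))⁻¹)⁻¹
      = E.h i j a * E.h i j b * ((E.h i j (a * b))⁻¹ * E.x k l t * E.h i j (a * b)) *
        (E.h i j a * E.h i j b)⁻¹ := by group
    _ = E.x k l t := by rw [h4, h1]

/-- Steinberg's identity -/
theorem h_symbol {i j : ι} (hij : i ≠ j) {u : F} (hu : u ≠ 0) (hu' : 1 - u ≠ 0) :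
    E.h i j u * E.h i j (1 - u) = E.h i j (u * (1 - u)) := by
  have hP : ∀ a b, E.x i j a * E.x i j b = E.x i j (a + b) := E.add i j hij
  have hM : ∀ a b, E.x j i a * E.x j i b = E.x j i (a + b) := E.add j i hij.symm
  have hnP : ∀ c, c ≠ 0 → ∀ t, E.w i j c * E.x i j t = E.x j i (-t / c ^ 2) * E.w i j c := fun c hc t => by
    rw [← mul_inv_eq_iff_eq_mul, E.w_ij hij hc]; congr 1; ring
  have hnM : ∀ c, c ≠ 0 → ∀ t, E.w i j c * E.x j i t = E.x i j (-(c ^ 2) * t) * E.w i j c := fun c hc t => by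
    rw [← mul_inv_eq_iff_eq_mul, E.w_ji hij hc]; congr 1; ring
  obtain ⟨v, hv⟩ : ∃ v, v = 1 - u := ⟨_, rfl⟩
  rw [← hv] at hu' ⊢
  have hyxy : E.w i j (-v) = E.x j i (1 / v) * E.x i j (-v) * E.x j i (1 / v) := by
    have h := hnM (-v) (neg_ne_zero.2 hu') (1 / v)
    rw [show -((-v) ^ 2) * (1 / v) = -v by field_simp] at h
    rw [show E.w i j (-v) = E.x i j (-v) * E.x j i (1 / v) * E.x i j (-v) by simp [w]] at h ⊢
    exact (mul_left_cancel (a := E.x i j (-v)) (by simpa [mul_assoc] using h)).symm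
  have key : E.h i j u = E.w i j (u * v) * E.w i j (-v) := by
    have hmid : E.x i j (-v) = E.x j i (-(1 / v)) * E.w i j (-v) * E.x j i (-(1 / v)) := by
      rw [E.x_neg hij.symm, hyxy]; group
    calc E.h i j u
        = E.x i j u * E.x j i (-u⁻¹) * (E.x i j u * E.x i j (-1)) * E.x j i 1 * E.x i j (-1) := by
          simp [h, w, mul_assoc]
      _ = E.x i j u * (E.x j i (-u⁻¹) * E.x j i (-(1 / v))) * E.w i j (-v) *
          (E.x j i (-(1 / v)) * E.x j i 1) * E.x i j (-1) := by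
        rw [hP, show u + -1 = -v by rw [hv]; ring, hmid]; group
      _ = E.x i j u * E.x j i (-(u * v)⁻¹) * (E.w i j (-v) * E.x j i (-u / v)) * E.x i j (-1) := by
        rw [hM, hM, show -u⁻¹ + -(1 / v) = -(u * v)⁻¹ by field_simp; linear_combination -hv,
          show -(1 / v) + 1 = -u / v by field_simp; linear_combination hv]
        group
      _ = E.x i j u * E.x j i (-(u * v)⁻¹) * E.x i j (u * v) * (E.w i j (-v) * E.x i j (-1)) := by
        rw [hnM _ (neg_ne_zero.2 hu'), show -((-v) ^ 2) * (-u / v) = u * v by field_simp]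
        group
      _ = E.x i j (u + -(u * v)) * E.w i j (u * v) * E.x j i (1 / v ^ 2) * E.w i j (-v) := by
        rw [hnP _ (neg_ne_zero.2 hu'), neg_neg, neg_sq, ← hP, E.x_neg hij,
          show E.w i j (u * v) = E.x i j (u * v) * E.x j i (-(u * v)⁻¹) * E.x i j (u * v) from rfl]
        group
      _ = E.x i j (u + -(u * v)) * (E.x i j (-(u * v) ^ 2 * (1 / v ^ 2)) * E.w i j (u * v)) * E.w i j (-v) := by
        rw [← hnM _ (mul_ne_zero hu hu')]
        group
      _ = E.x i j 0 * E.w i j (u * v) * E.w i j (-v) := by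
        rw [← mul_assoc (E.x i j (u + -(u * v))), hP]
        congr 3
        field_simp
        linear_combination (-u) * hv
      _ = _ := by rw [E.x_zero hij, one_mul]
  rw [key]
  unfold h
  rw [E.w_neg hij v, E.w_neg hij 1]
  group

theorem h_one {i j : ι} (hij : i ≠ j) : E.h i j 1 = 1 := by
  rw [h, E.w_neg hij, mul_inv_cancel]

/-- over a finite field `h i j` is multiplicative -/
theorem h_mul [Finite F] (hgen : E.Gen) {i j : ι} (hij : i ≠ j) {a b : F} (ha : a ≠ 0) (hb : b ≠ 0) :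
    E.h i j a * E.h i j b = E.h i j (a * b) := by
  obtain ⟨H, hH⟩ : ∃ H : Fˣ → G, H = fun x : Fˣ => E.h i j (x : F) := ⟨_, rfl⟩
  suffices ∀ x y : Fˣ, H x * H y = H (x * y) by
    simpa [hH] using this (Units.mk0 a ha) (Units.mk0 b hb)
  have hz' : ∀ x y : Fˣ, ∃ z ∈ Subgroup.center G, H (x * y) = z * (H x * H y) := fun x y =>
    ⟨_, inv_mem (show H x * H y * (H (x * y))⁻¹ ∈ Subgroup.center G by
      simpa [hH] using E.h_defect hgen hij x.ne_zero y.ne_zero), by group⟩
  obtain ⟨g, hg⟩ := IsCyclic.exists_generator (α := Fˣ)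
  have hg' : ∀ x : Fˣ, ∃ m : ℕ, g ^ m = x := fun x => mem_powers_iff_mem_zpowers.2 (hg x)
  have hpow : ∀ m : ℕ, ∃ z ∈ Subgroup.center G, H (g ^ m) = z * H g ^ m := by
    intro m
    induction m with
    | zero => exact ⟨1, one_mem _, by simp [hH, E.h_one hij]⟩
    | succ m ih =>
      obtain ⟨z, hz1, e⟩ := ih
      obtain ⟨z', hz2, e'⟩ := hz' (g ^ m) g
      exact ⟨z' * z, mul_mem hz2 hz1, by rw [pow_succ, e', e, pow_succ, mul_assoc, mul_assoc]⟩
  have hcomm : ∀ x y : Fˣ, H x * H y = H y * H x := by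
    intro x y
    obtain ⟨m, rfl⟩ := hg' x
    obtain ⟨n, rfl⟩ := hg' y
    obtain ⟨z, hz1, e⟩ := hpow m
    obtain ⟨w', hw1, e'⟩ := hpow n
    have cz : Commute z (w' * H g ^ n) := (Subgroup.mem_center_iff.1 hz1 _).symm
    have cw : Commute (H g ^ m) w' := Subgroup.mem_center_iff.1 hw1 _
    rw [e, e']
    exact (cz.mul_left (cw.mul_right ((Commute.refl (H g)).pow_pow m n))).eq
  have hsq : ∀ x y : Fˣ, H (x * x * y) = H y * H (x * x) := by
    intro x y
    obtain ⟨h1, h2⟩ := E.mon_h hij x.ne_zero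
    have e3 : ∀ c : F, E.h i j x * E.w i j c * (E.h i j x)⁻¹ = E.w i j ((x : F) ^ 2 * c) := fun c => by
      rw [(E.mon_h hij x.ne_zero).conj_w E hij]
      simp only [Equiv.Perm.one_apply, hE, if_pos, hij.symm, if_false]
      congr 1
      field_simp
    have := hcomm x y
    rw [← mul_inv_eq_iff_eq_mul] at this
    have e4 : H y = H (x * x * y) * (H (x * x))⁻¹ := by
      rw [← this]
      simp only [hH]
      show E.h i j x * (E.w i j (y : F) * E.w i j (-1)) * (E.h i j x)⁻¹ = _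
      rw [conj_mul_conj, e3, e3]
      simp only [h, Units.val_mul, mul_neg, mul_one, pow_two, mul_inv_rev]
      rw [E.w_neg hij ((x : F) * x)]
      group
    rw [e4, inv_mul_cancel_right]
  have hsq1 : ∀ x y : Fˣ, IsSquare x → H x * H y = H (x * y) := by
    rintro _ y ⟨x, rfl⟩; rw [hsq, hcomm]
  by_cases hall : ∀ x : Fˣ, IsSquare x
  · exact fun x y => hsq1 x y (hall x)
  simp only [not_forall] at hall
  obtain ⟨e, he⟩ := hall
  have hns : ∀ x y : Fˣ, ¬ IsSquare x → ¬ IsSquare y → IsSquare (x * y⁻¹) := by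
    intro x y hx hy
    obtain ⟨m, rfl⟩ := hg' x
    obtain ⟨n, rfl⟩ := hg' y
    have hm : ¬ Even m := fun ⟨k, hk⟩ => hx ⟨g ^ k, by rw [hk, pow_add]⟩
    have hn : ¬ Even n := fun ⟨k, hk⟩ => hy ⟨g ^ k, by rw [hk, pow_add]⟩
    obtain ⟨k, hk⟩ : Even ((m : ℤ) - n) := by
      rw [Int.even_sub, Int.even_coe_nat, Int.even_coe_nat]; tauto
    exact ⟨g ^ k, by rw [← zpow_add, ← hk, zpow_sub, zpow_natCast, zpow_natCast]⟩
  obtain ⟨u, v, huu, hvv, huv⟩ : ∃ u v : Fˣ, ¬ IsSquare u ∧ ¬ IsSquare v ∧ (u : F) + v = 1 := by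
    by_contra hne
    simp only [not_exists, not_and] at hne
    have h0 : ∀ u : {u : Fˣ // ¬ IsSquare u}, 1 - (u.1 : F) ≠ 0 := by
      rintro ⟨u, hu⟩ h'
      exact hu ⟨1, Units.ext (by simpa using (sub_eq_zero.1 h').symm)⟩
    have h1 : ∀ u : {u : Fˣ // ¬ IsSquare u}, IsSquare (Units.mk0 _ (h0 u)) := fun u =>
      not_not.1 fun h' => hne u.1 _ u.2 h' (by simp)
    let φ : {u : Fˣ // ¬ IsSquare u} → {u : Fˣ // IsSquare u} := fun u => ⟨_, h1 u⟩
    have hφ : Function.Injective φ := fun a b hab => by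
      have : (1 : F) - (a.1 : F) = 1 - (b.1 : F) := congrArg (fun z : {u : Fˣ // IsSquare u} => (z.1 : F)) hab
      exact Subtype.ext (Units.ext (sub_right_injective this))
    have hcard : Nat.card {u : Fˣ // IsSquare u} = Nat.card {u : Fˣ // ¬ IsSquare u} := by
      refine Nat.card_congr (Equiv.subtypeEquiv (Equiv.mulRight e) fun x => ?_)
      simp only [Equiv.coe_mulRight]
      constructor
      · rintro hx hxe
        exact he (by simpa using hx.inv.mul hxe)
      · intro hxe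
        by_contra hx
        exact hxe (by
          obtain ⟨k, hk⟩ := hns x e hx he
          exact ⟨k * e, by rw [mul_mul_mul_comm, ← hk]; group⟩)
    have hb := (hφ.bijective_of_nat_card_le hcard.le).2 ⟨1, IsSquare.one⟩
    obtain ⟨u, hu⟩ := hb
    have : (1 : F) - (u.1 : F) = 1 := congrArg (fun z : {u : Fˣ // IsSquare u} => (z.1 : F)) hu
    exact u.1.ne_zero (sub_eq_self.1 this)
  have huv' : H u * H v = H (u * v) := by
    simp only [hH, Units.val_mul]
    rw [show (v : F) = 1 - u by linear_combination huv]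
    refine E.h_symbol hij u.ne_zero ?_
    rw [show (1 : F) - u = v by linear_combination -huv]
    exact v.ne_zero
  intro x y
  by_cases hx : IsSquare x
  · exact hsq1 x y hx
  by_cases hy : IsSquare y
  · rw [hcomm, mul_comm]; exact hsq1 y x hy
  have hxu := hns x u hx huu
  have hyv := hns y v hy hvv
  have ex := hsq1 _ u hxu
  have ey := hsq1 _ v hyv
  rw [inv_mul_cancel_right] at ex ey
  have e : x * y = x * u⁻¹ * (y * v⁻¹) * (u * v) := by
    rw [mul_mul_mul_comm, inv_mul_cancel_right, inv_mul_cancel_right]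
  rw [← ex, ← ey, e, ← hsq1 _ _ (hxu.mul hyv), ← hsq1 _ _ hxu, ← huv']
  rw [← mul_assoc, mul_assoc (H (x * u⁻¹)) (H u), hcomm u]
  group

end Elem

end CfsgLib.Known.SLn
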